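import Cfsg.Agent.H32.Harada.CaseTwo
import Cfsg.Agent.PGroups.CyclicMaximal
import Cfsg.Prelude.Def_CaseTheorems
import Cfsg.Prelude.Def_Transfer

/-!
A 2-group with a self-centralizing elementary abelian subgroup of order eight has sectional 2-rank at most four.
-/

set_option autoImplicit false

namespace Cfsg.Agent.H32.Harada

open Subgroup

variable {S : Type*} [Group S] [Finite S]

theorem squareBound_of_selfCentralizing (hS : IsPGroup 2 S) {A : Subgroup S} (hA2 : ∀ x ∈ A, x * x = 1)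
    (hAc : ∀ x ∈ A, ∀ y ∈ A, x * y = y * x) (hA8 : Nat.card A = 8) (hA : centralizer (A : Set S) = A) :
    H64.RankFour.SquareBound S := by
  classical
  have : Fact (Nat.Prime 2) := ⟨Nat.prime_two⟩
  by_cases hn : ∀ V : Subgroup S, V.Normal → IsMulCommutative V → IsCyclic V
  · have hnc : ¬ IsCyclic S := by
      intro hcyc
      have : IsCyclic A := inferInstance
      obtain ⟨g, hg⟩ := IsCyclic.exists_ofOrder_eq_natCard (α := A)
      have h2 := orderOf_le_of_pow_eq_one two_pos (show g ^ 2 = 1 by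
        rw [pow_two]; exact Subtype.ext (hA2 g g.2))
      omega
    obtain ⟨k, c, -, hc, hcard, -, -⟩ := PGroups.structure_of_normal_abelian_cyclic hS hnc hn
    refine H64.RankFour.squareBound_of_cyclic (c := c) ?_
    have h := (zpowers c).card_mul_index
    rw [Nat.card_zpowers, hc, hcard, pow_succ] at h
    rw [Nat.eq_of_mul_eq_mul_left (by positivity) h]
    norm_num
  push Not at hn
  obtain ⟨V, hVn, hVc, hVcyc⟩ := hn
  have hVc' : ∀ x ∈ V, ∀ y ∈ V, x * y = y * x := fun x hx y hy =>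
    congrArg Subtype.val (hVc.is_comm.comm (⟨x, hx⟩ : V) ⟨y, hy⟩)
  let W : Subgroup S :=
    { carrier := {x | x ∈ V ∧ x * x = 1}
      one_mem' := ⟨one_mem V, mul_one 1⟩
      mul_mem' := by
        rintro x y ⟨hx, hx2⟩ ⟨hy, hy2⟩
        refine ⟨mul_mem hx hy, ?_⟩
        calc x * y * (x * y) = x * (y * x) * y := by group
          _ = x * x * (y * y) := by rw [hVc' y hy x hx]; group
          _ = 1 := by rw [hx2, hy2, one_mul]
      inv_mem' := by
        rintro x ⟨hx, hx2⟩
        exact ⟨inv_mem hx, by rw [← mul_inv_rev, hx2, inv_one]⟩ }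
  have hWn : W.Normal := ⟨fun x hx g => ⟨hVn.conj_mem x hx.1 g, by
    calc g * x * g⁻¹ * (g * x * g⁻¹) = g * (x * x) * g⁻¹ := by group
      _ = 1 := by rw [hx.2, mul_one, mul_inv_cancel]⟩⟩
  have hW4 : 2 ^ 2 ≤ Nat.card W := by
    by_contra h
    have hWp : IsPGroup 2 W := hS.to_subgroup W
    obtain ⟨i, hi⟩ := IsPGroup.iff_card.1 hWp
    refine hVcyc (PGroups.isCyclic_of_small_omega hS hVc W (fun v hv hv2 => ⟨hv, by rwa [← pow_two]⟩) ?_)
    rw [hi] at h ⊢
    have : i < 2 := by
      by_contra h'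
      exact h (Nat.pow_le_pow_right two_pos (by omega))
    calc 2 ^ i ≤ 2 ^ 1 := Nat.pow_le_pow_right two_pos (by omega)
      _ = 2 := pow_one 2
  obtain ⟨U, hUn, hUW, hU4⟩ := PGroups.exists_normal_card_le hS W 2 hW4
  have hU4' : Nat.card U = 4 := hU4
  by_cases hUA : U ≤ A
  · exact caseOne hS hA2 hAc hA8 hA hUA hU4'
  · exact caseTwo hS hA2 hAc hA8 hA hU4' (fun x hx => (hUW hx).2) hUA

omit [Finite S] in
theorem pRank_of_squareBound (h : H64.RankFour.SquareBound S) : Cfsg.SectionalPRankLE 2 4 S := by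
  intro H N hN E hEc hE2
  let K : Subgroup H := E.comap (QuotientGroup.mk' N)
  have hNK : N ≤ K := fun x hx => by
    show (QuotientGroup.mk' N) x ∈ E
    rw [QuotientGroup.mk'_apply, (QuotientGroup.eq_one_iff x).2 hx]
    exact one_mem E
  have hb := h (K.map H.subtype) (N.map H.subtype) (map_mono hNK)
    (by
      rintro _ ⟨q, -, rfl⟩ _ ⟨n, hn, rfl⟩
      exact ⟨q * n * q⁻¹, hN.conj_mem n hn q, by simp⟩)
    (by
      rintro _ ⟨q, hq, rfl⟩
      refine ⟨q * q, (QuotientGroup.eq_one_iff _).1 ?_, map_mul H.subtype q q⟩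
      have := hE2 _ hq
      rwa [pow_two, ← map_mul] at this)
  rw [relIndex_map_map_of_injective N K H.subtype_injective] at hb
  refine le_trans (le_of_eq ?_) hb
  have h1 : N.relIndex K = Nat.card ↥(K.map (QuotientGroup.mk' N)) :=
    (congrArg (fun L : Subgroup H => L.relIndex K) (QuotientGroup.ker_mk' N)).symm.trans
      (Subgroup.relIndex_ker (K := K) (QuotientGroup.mk' N))
  rw [h1, map_comap_eq_self_of_surjective (QuotientGroup.mk'_surjective N)]

theorem sectional_of_selfCentralizing (hS : IsPGroup 2 S) (A : Subgroup S)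
    (hA : Cfsg.IsElementaryAbelian 2 A) (hA8 : Nat.card A = 8) (hC : centralizer (A : Set S) = A) :
    Cfsg.SectionalPRankLE 2 4 S :=
  pRank_of_squareBound (squareBound_of_selfCentralizing hS (fun x hx => by rw [← pow_two]; exact hA.2 x hx)
    (fun x hx y hy => congrArg Subtype.val (hA.1.is_comm.comm (⟨x, hx⟩ : A) ⟨y, hy⟩)) hA8 hC)

end Cfsg.Agent.H32.Harada
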