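import Cfsg.Agent.H64.RankFour
import Cfsg.Agent.H90.SectionalRankTwo
import Cfsg.Agent.PGroups.Taussky
import Cfsg.Agent.PGroups.TwoGroups

/-!
Tools for 2-groups with a self-centralizing elementary abelian subgroup of order eight: classes filling a
coset of a normal subgroup, abelian subgroups of rank two under large elementary sections.
-/

set_option autoImplicit false

namespace Cfsg.Agent.H32.Harada

open Subgroup
open scoped commutatorElement

variable {G : Type*} [Group G]

/-- `dl a x = x a x⁻¹ a⁻¹`, as a function of `x`. -/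
def dl (a x : G) : G := x * a * x⁻¹ * a⁻¹

theorem dl_mul (a x y : G) : dl a (x * y) = x * dl a y * x⁻¹ * dl a x := by
  simp only [dl]; group

theorem dl_eq_one {a x : G} : dl a x = 1 ↔ x * a = a * x := by
  simp only [dl]
  rw [mul_inv_eq_one, mul_inv_eq_iff_eq_mul]

theorem conj_eq_dl_mul (a x : G) : x * a * x⁻¹ = dl a x * a := by
  simp only [dl]; group

theorem map_dl {H : Type*} [Group H] (f : G →* H) (a x : G) : f (dl a x) = dl (f a) (f x) := by
  simp only [dl, map_mul, map_inv]

/-- Elements with the same `dl` differ by an element of the centralizer. -/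
theorem commute_of_dl_eq {a x y : G} (h : dl a x = dl a y) : x⁻¹ * y * a = a * (x⁻¹ * y) := by
  rw [← dl_eq_one, dl_mul, ← h]
  simp only [dl]; group

variable [Finite G]

/-- An injection from the cosets of the centralizer into the values of `dl`. -/
theorem card_le_card_centralizer_mul {a : G} {N : Subgroup G} (C : Subgroup G) (hN : ∀ x ∈ C, dl a x ∈ N) :
    Nat.card C ≤ Nat.card ↥(C ⊓ centralizer {a}) * Nat.card N := by
  set T := C ⊓ centralizer ({a} : Set G)
  let m : ↥C ⧸ T.subgroupOf C → N := fun q => ⟨dl a q.out, hN _ q.out.2⟩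
  have hm : Function.Injective m := by
    intro q q' h
    rw [← QuotientGroup.out_eq' q, ← QuotientGroup.out_eq' q']
    refine QuotientGroup.eq.2 (mem_subgroupOf.2 ⟨SetLike.coe_mem _, mem_centralizer_singleton_iff.2 ?_⟩)
    simp only [Subgroup.coe_mul, InvMemClass.coe_inv]
    exact commute_of_dl_eq (congrArg Subtype.val h)
  have h1 := Nat.card_le_card_of_injective m hm
  rw [← H64.RankFour.card_mul_relIndex (inf_le_left : T ≤ C)]
  exact Nat.mul_le_mul le_rfl h1

/-- If the centralizer of `a` in `C` is as small as possible, `dl a` maps `C` onto `N`. -/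
theorem dl_surj {a : G} {N : Subgroup G} (C : Subgroup G) (hN : ∀ x ∈ C, dl a x ∈ N)
    (h : Nat.card ↥(C ⊓ centralizer {a}) * Nat.card N ≤ Nat.card C) {k : G} (hk : k ∈ N) :
    ∃ x ∈ C, dl a x = k := by
  set T := C ⊓ centralizer ({a} : Set G)
  let m : ↥C ⧸ T.subgroupOf C → N := fun q => ⟨dl a q.out, hN _ q.out.2⟩
  have hm : Function.Injective m := by
    intro q q' h
    rw [← QuotientGroup.out_eq' q, ← QuotientGroup.out_eq' q']
    refine QuotientGroup.eq.2 (mem_subgroupOf.2 ⟨SetLike.coe_mem _, mem_centralizer_singleton_iff.2 ?_⟩)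
    simp only [Subgroup.coe_mul, InvMemClass.coe_inv]
    exact commute_of_dl_eq (congrArg Subtype.val h)
  rw [← H64.RankFour.card_mul_relIndex (inf_le_left : T ≤ C)] at h
  obtain ⟨q, hq⟩ := (hm.bijective_of_nat_card_le (Nat.le_of_mul_le_mul_left h Nat.card_pos)).2 ⟨k, hk⟩
  exact ⟨q.out, q.out.2, congrArg Subtype.val hq⟩

omit [Finite G] in
/-- A full class of involutions in `a N` forces inversion of `N`. -/
theorem full_inverts {a : G} (ha : a * a = 1) {N : Subgroup G}
    (hs : ∀ k ∈ N, ∃ x, dl a x = k) {k : G} (hk : k ∈ N) : a * k * a = k⁻¹ := by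
  obtain ⟨x, rfl⟩ := hs k hk
  have h : (dl a x * a) * (dl a x * a) = 1 := by
    rw [← conj_eq_dl_mul]
    calc x * a * x⁻¹ * (x * a * x⁻¹) = x * (a * a) * x⁻¹ := by group
      _ = 1 := by rw [ha]; group
  refine eq_inv_of_mul_eq_one_left ?_
  calc a * dl a x * a * dl a x = a * ((dl a x * a) * (dl a x * a)) * a⁻¹ := by group
    _ = 1 := by rw [h]; group

omit [Finite G] in
theorem full_comm {a : G} (ha : a * a = 1) {N : Subgroup G}
    (hs : ∀ k ∈ N, ∃ x, dl a x = k) {k l : G} (hk : k ∈ N) (hl : l ∈ N) : k * l = l * k := by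
  apply inv_injective
  rw [mul_inv_rev, ← full_inverts ha hs hk, ← full_inverts ha hs hl, ← full_inverts ha hs (mul_mem hl hk)]
  calc a * l * a * (a * k * a) = a * l * (a * a) * k * a := by group
    _ = a * (l * k) * a := by rw [ha]; group

omit [Finite G] in
theorem full_not_mem {a : G} (ha : a * a = 1) (ha1 : a ≠ 1) {N : Subgroup G}
    (hs : ∀ k ∈ N, ∃ x, dl a x = k) : a ∉ N := by
  intro h
  obtain ⟨x, hx⟩ := hs a h
  have h1 := conj_eq_dl_mul a x
  rw [hx, ha, mul_inv_eq_one] at h1
  exact ha1 (mul_left_cancel (a := x) (by rw [mul_one]; exact h1))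

/-! ### Squares in an abelian subgroup -/

/-- The subgroup of squares of a commutative subgroup. -/
def squares (K : Subgroup G) (hK : ∀ a ∈ K, ∀ b ∈ K, a * b = b * a) : Subgroup G where
  carrier := {x | ∃ k ∈ K, k * k = x}
  one_mem' := ⟨1, one_mem K, mul_one 1⟩
  mul_mem' := by
    rintro _ _ ⟨a, ha, rfl⟩ ⟨b, hb, rfl⟩
    refine ⟨a * b, mul_mem ha hb, ?_⟩
    calc a * b * (a * b) = a * (b * a) * b := by group
      _ = a * a * (b * b) := by rw [← hK a ha b hb]; group
  inv_mem' := by
    rintro _ ⟨a, ha, rfl⟩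
    exact ⟨a⁻¹, inv_mem ha, by group⟩

omit [Finite G] in
theorem squares_le {K : Subgroup G} (hK : ∀ a ∈ K, ∀ b ∈ K, a * b = b * a) : squares K hK ≤ K := by
  rintro _ ⟨a, ha, rfl⟩
  exact mul_mem ha ha

omit [Finite G] in
theorem squares_normal {K : Subgroup G} [K.Normal] (hK : ∀ a ∈ K, ∀ b ∈ K, a * b = b * a) :
    (squares K hK).Normal := by
  refine ⟨?_⟩
  rintro _ ⟨a, ha, rfl⟩ g
  exact ⟨g * a * g⁻¹, Subgroup.Normal.conj_mem inferInstance a ha g, by group⟩

/-- The index of the squares is at most the number of involutions. -/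
theorem relIndex_squares_le {R : Subgroup G} (hR : ∀ a ∈ R, ∀ b ∈ R, a * b = b * a) {V : Subgroup G}
    (hV : ∀ r ∈ R, r * r = 1 → r ∈ V) : (squares R hR).relIndex R ≤ Nat.card V := by
  let f : R →* R := MonoidHom.mk' (fun r => r * r) fun a b => by
    apply Subtype.ext
    simp only [Subgroup.coe_mul]
    calc (a : G) * b * (a * b) = a * (b * a) * b := by group
      _ = a * a * (b * b) := by rw [← hR a a.2 b b.2]; group
  have hr : f.range.map R.subtype = squares R hR := by
    ext x
    constructor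
    · rintro ⟨_, ⟨r, rfl⟩, rfl⟩
      exact ⟨r, r.2, rfl⟩
    · rintro ⟨r, hr, rfl⟩
      exact ⟨_, ⟨⟨r, hr⟩, rfl⟩, rfl⟩
  have hk : Nat.card f.ker ≤ Nat.card V :=
    Nat.card_le_card_of_injective (fun r => (⟨(r : R), hV _ r.1.2 (congrArg Subtype.val r.2)⟩ : V))
      fun r r' h => Subtype.ext (Subtype.ext (congrArg (fun v : V => (v : G)) h))
  have h1 := H64.RankFour.card_mul_relIndex (squares_le hR)
  rw [← hr, card_map_of_injective R.subtype_injective, hr, ← f.ker.card_mul_index, Subgroup.index_ker,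
    mul_comm _ (Nat.card f.range)] at h1
  rw [Nat.eq_of_mul_eq_mul_left Nat.card_pos h1]
  exact hk

/-- The squares have exactly as many cosets as there are involutions, with the identity. -/
theorem le_relIndex_squares {R : Subgroup G} (hR : ∀ a ∈ R, ∀ b ∈ R, a * b = b * a) {V : Subgroup G}
    (hVR : V ≤ R) (hV : ∀ r ∈ V, r * r = 1) : Nat.card V ≤ (squares R hR).relIndex R := by
  let f : R →* R := MonoidHom.mk' (fun r => r * r) fun a b => by
    apply Subtype.ext
    simp only [Subgroup.coe_mul]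
    calc (a : G) * b * (a * b) = a * (b * a) * b := by group
      _ = a * a * (b * b) := by rw [← hR a a.2 b b.2]; group
  have hr : f.range.map R.subtype = squares R hR := by
    ext x
    constructor
    · rintro ⟨_, ⟨r, rfl⟩, rfl⟩
      exact ⟨r, r.2, rfl⟩
    · rintro ⟨r, hr, rfl⟩
      exact ⟨_, ⟨⟨r, hr⟩, rfl⟩, rfl⟩
  have hk : Nat.card V ≤ Nat.card f.ker :=
    Nat.card_le_card_of_injective (fun r => (⟨⟨r, hVR r.2⟩, Subtype.ext (hV r r.2)⟩ : f.ker))
      fun r r' h => Subtype.ext (congrArg (fun v : f.ker => ((v : R) : G)) h)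
  have h1 := H64.RankFour.card_mul_relIndex (squares_le hR)
  rw [← hr, card_map_of_injective R.subtype_injective, hr, ← f.ker.card_mul_index, Subgroup.index_ker,
    mul_comm _ (Nat.card f.range)] at h1
  rw [Nat.eq_of_mul_eq_mul_left Nat.card_pos h1]
  exact hk

theorem dvd_eight {n k : ℕ} (h : n = 2 ^ k) (hn : 4 < n) (hn' : n ≤ 8) : n = 8 := by
  subst h
  have h1 : 2 ^ 2 < 2 ^ k := by simpa using hn
  have h2 : 2 ^ k ≤ 2 ^ 3 := by simpa using hn'
  rw [Nat.pow_lt_pow_iff_right one_lt_two] at h1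
  rw [Nat.pow_le_pow_iff_right one_lt_two] at h2
  obtain rfl : k = 3 := by omega
  norm_num

/-- The elementary sections of a subgroup mapped into at most `e` cosets of `K`. -/
theorem section_le {K V : Subgroup G} (hK : ∀ a ∈ K, ∀ b ∈ K, a * b = b * a) (hV : ∀ r ∈ K, r * r = 1 → r ∈ V)
    {Q N : Subgroup G} (hsq : ∀ q ∈ Q, q * q ∈ N) :
    N.relIndex Q ≤ K.relIndex Q * Nat.card V := by
  set R := Q ⊓ K
  have hR : ∀ a ∈ R, ∀ b ∈ R, a * b = b * a := fun a ha b hb => hK a ha.2 b hb.2
  have h1 : (squares R hR).relIndex R ≤ Nat.card V := relIndex_squares_le hR fun r hr => hV r hr.2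
  have h2 : squares R hR ≤ N := by
    rintro _ ⟨r, hr, rfl⟩
    exact hsq r hr.1
  refine (Nat.le_of_dvd (Nat.pos_of_ne_zero Subgroup.index_ne_zero_of_finite)
    (relIndex_dvd_of_le_left Q h2)).trans ?_
  show (squares R hR).relIndex Q ≤ _
  rw [← relIndex_mul_relIndex _ R Q (squares_le hR) inf_le_left, inf_relIndex_left, mul_comm]
  exact Nat.mul_le_mul le_rfl h1

/-- A section of order above sixteen over a rank two subgroup with at most eight cosets: all squares of it
are squares of `K`. -/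
theorem bad_section (hG : IsPGroup 2 G) {K V : Subgroup G} [K.Normal] (hK : ∀ a ∈ K, ∀ b ∈ K, a * b = b * a)
    (hV : ∀ r ∈ K, r * r = 1 → r ∈ V) (hV4 : Nat.card V ≤ 4) {Q N : Subgroup G} (hNQ : N ≤ Q)
    (hsq : ∀ q ∈ Q, q * q ∈ N) (he : K.relIndex Q ≤ 8)
    (hbad : 16 < N.relIndex Q) :
    K.relIndex Q = 8 ∧ N ≤ squares K hK := by
  have : Fact (Nat.Prime 2) := ⟨Nat.prime_two⟩
  obtain ⟨i, hi⟩ := (hG.to_subgroup Q).index (K.subgroupOf Q)
  have hle := section_le hK hV hsq
  have he4 : 4 < K.relIndex Q := by nlinarith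
  have he8 : K.relIndex Q = 8 := dvd_eight (hi : K.relIndex Q = _) he4 he
  refine ⟨he8, ?_⟩
  set R := Q ⊓ K
  have hR : ∀ a ∈ R, ∀ b ∈ R, a * b = b * a := fun a ha b hb => hK a ha.2 b hb.2
  have h2 : squares R hR ≤ N := by
    rintro _ ⟨r, hr, rfl⟩
    exact hsq r hr.1
  have h3 : squares R hR ≤ squares K hK := by
    rintro _ ⟨r, hr, rfl⟩
    exact ⟨r, hr.2, rfl⟩
  have h4 : (squares R hR).relIndex Q ≤ 32 := by
    rw [← relIndex_mul_relIndex _ R Q (squares_le hR) inf_le_left, inf_relIndex_left, he8]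
    have := (relIndex_squares_le hR (V := V) fun r hr => hV r hr.2).trans hV4
    omega
  rw [← relIndex_mul_relIndex _ N Q h2 hNQ] at h4
  have h5 : (squares R hR).relIndex N = 1 := by
    have : (squares R hR).relIndex N ≠ 0 := Subgroup.index_ne_zero_of_finite
    by_contra h
    have : 2 ≤ (squares R hR).relIndex N := by omega
    nlinarith
  exact (relIndex_eq_one.1 h5).trans h3

/-- A section containing `a` is bounded by the centralizer of `a` in it. -/
theorem section_le_centralizer {Q N : Subgroup G} (hNQ : N ≤ Q) (hn : ∀ q ∈ Q, ∀ n ∈ N, q * n * q⁻¹ ∈ N)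
    (hsq : ∀ q ∈ Q, q * q ∈ N) {a : G} (ha : a ∈ Q) :
    N.relIndex Q ≤ Nat.card ↥(Q ⊓ centralizer {a}) := by
  have h1 := card_le_card_centralizer_mul Q (a := a) (N := N)
    fun x hx => H64.RankFour.comm_mem hn hsq hx ha
  rw [← H64.RankFour.card_mul_relIndex hNQ, mul_comm _ (Nat.card N)] at h1
  exact Nat.le_of_mul_le_mul_left h1 Nat.card_pos

omit [Finite G] in
theorem card_centralizer_conj (a x : G) :
    Nat.card ↥(centralizer {x * a * x⁻¹}) = Nat.card ↥(centralizer ({a} : Set G)) := by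
  rw [← H64.RankFour.card_map_cj (centralizer ({a} : Set G)) x]
  congr 2
  ext v
  rw [mem_centralizer_singleton_iff]
  constructor
  · intro h
    refine ⟨x⁻¹ * v * x, mem_centralizer_singleton_iff.2 ?_, by simp only [H64.RankFour.cj_apply]; group⟩
    calc x⁻¹ * v * x * a = x⁻¹ * (v * (x * a * x⁻¹)) * x := by group
      _ = _ := by rw [h]; group
  · rintro ⟨w, hw, rfl⟩
    have hw := mem_centralizer_singleton_iff.1 hw
    simp only [H64.RankFour.cj_apply]
    calc x * w * x⁻¹ * (x * a * x⁻¹) = x * (w * a) * x⁻¹ := by group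
      _ = _ := by rw [hw]; group

/-- The derived subgroup has index at least eight when the centre is big and proper. -/
theorem eight_le_index_commutator (hG : IsPGroup 2 G) (hZ : 4 ≤ Nat.card (center G)) (hna : center G ≠ ⊤) :
    8 ≤ (commutator G).index := by
  have : Fact (Nat.Prime 2) := ⟨Nat.prime_two⟩
  have := hG.isNilpotent
  obtain ⟨n, hn⟩ := IsPGroup.iff_card.1 hG
  obtain ⟨i, hi⟩ := hG.index (commutator G)
  by_contra hlt
  have hn3 : 3 ≤ n := by
    by_contra h
    have h1 : Nat.card (center G) < Nat.card G :=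
      lt_of_le_of_ne (card_le_card_group _) fun e => hna (eq_top_of_card_eq _ e)
    have h2 : 2 ^ n ≤ 2 ^ 2 := Nat.pow_le_pow_right two_pos (by omega)
    omega
  have h22 : (commutator G).index ∣ 2 ^ 2 := by
    rw [hi]
    refine pow_dvd_pow 2 ?_
    by_contra h
    exact hlt (hi ▸ (le_trans (by norm_num) (Nat.pow_le_pow_right two_pos (show 3 ≤ i by omega))))
  obtain h4 | h4 : (commutator G).index = 4 ∨ (commutator G).index ∣ 2 := by
    obtain ⟨k, hk, hk'⟩ := (Nat.dvd_prime_pow Nat.prime_two).1 h22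
    interval_cases k
    · exact Or.inr (by rw [hk']; norm_num)
    · exact Or.inr (by rw [hk']; norm_num)
    · exact Or.inl (by rw [hk']; norm_num)
  · have hc := PGroups.maxClass_of_index_commutator n G hn3 hn h4
    have := (PGroups.card_center_of_maxClass hn3 hn hc).1
    omega
  · have hf : (frattini G).index ∣ 2 :=
      (index_dvd_of_le (PGroups.commutator_le_frattini hG)).trans h4
    have : IsCyclic (G ⧸ frattini G) := by
      rw [index_eq_card] at hf
      rcases (Nat.dvd_prime Nat.prime_two).1 hf with h | h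
      · have := (Nat.card_eq_one_iff_unique.mp h).1
        exact isCyclic_of_subsingleton
      · exact isCyclic_of_prime_card (p := 2) h
    have := PGroups.isCyclic_of_frattini (G := G)
    exact hna (eq_top_iff.2 fun x _ => mem_center_iff.2 fun g => mul_comm' g x)

/-- An automorphism of order two which is trivial modulo fourth powers moves elements by involutions. -/
theorem moved_sq_eq_one (hG : IsPGroup 2 G) {K : Subgroup G} (hK : ∀ a ∈ K, ∀ b ∈ K, a * b = b * a)
    {q : G} (hqK : ∀ k ∈ K, q * k * q⁻¹ ∈ K) (h2 : ∀ k ∈ K, q * q * k = k * (q * q))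
    (h4 : ∀ k ∈ K, ∃ e ∈ K, dl k q = e * e * (e * e)) {k : G} (hk : k ∈ K) :
    dl k q * dl k q = 1 := by
  classical
  have : Fact (Nat.Prime 2) := ⟨Nat.prime_two⟩
  by_contra hne
  let T := {x : K | dl (x : G) q * dl (x : G) q ≠ 1}
  obtain ⟨x, hx, hmax⟩ := Set.exists_max_image T (fun x : K => orderOf (dl (x : G) q)) (Set.toFinite T)
    ⟨⟨k, hk⟩, hne⟩
  obtain ⟨e, he, hxe⟩ := h4 x x.2
  have hd : dl (x : G) q ∈ K := mul_mem (hqK _ x.2) (inv_mem x.2)
  -- the image of `e`
  obtain ⟨c, hcdef⟩ : ∃ c, c = dl e q := ⟨_, rfl⟩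
  have hc : c ∈ K := hcdef ▸ mul_mem (hqK _ he) (inv_mem he)
  have hqe : q * e * q⁻¹ = c * e := hcdef ▸ conj_eq_dl_mul e q
  have hsq : q * (dl (x : G) q) * q⁻¹ = (dl (x : G) q)⁻¹ := by
    simp only [dl]
    calc q * (q * x * q⁻¹ * (x : G)⁻¹) * q⁻¹ = q * q * x * (q * q)⁻¹ * (q * x * q⁻¹)⁻¹ := by group
      _ = x * (q * q) * (q * q)⁻¹ * (q * x * q⁻¹)⁻¹ := by rw [h2 x x.2]
      _ = _ := by group
  have hce : Commute c e := hK c hc e he
  have h4c : c ^ 4 = (dl (x : G) q)⁻¹ * (dl (x : G) q)⁻¹ := by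
    have h3 : (c * e) ^ 4 = (dl (x : G) q)⁻¹ := by
      rw [← hsq, hxe, ← hqe, conj_pow, pow_succ, pow_succ, pow_two]
      group
    rw [hce.mul_pow] at h3
    calc c ^ 4 = c ^ 4 * e ^ 4 * (e ^ 4)⁻¹ := by group
      _ = _ := by rw [h3, hxe]; group
  obtain ⟨s, hs⟩ := IsPGroup.iff_orderOf.1 hG (dl (x : G) q)
  obtain ⟨r, hr⟩ := IsPGroup.iff_orderOf.1 hG c
  have hs2 : 2 ≤ s := by
    by_contra h
    refine hx ?_
    rw [← pow_two]
    refine orderOf_dvd_iff_pow_eq_one.1 ?_
    rw [hs]
    calc 2 ^ s ∣ 2 ^ 1 := pow_dvd_pow 2 (by omega)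
      _ = 2 := pow_one 2
  have ho : orderOf ((dl (x : G) q) * dl (x : G) q) = 2 ^ (s - 1) := by
    rw [← pow_two, orderOf_pow' _ two_ne_zero, hs,
      Nat.gcd_eq_right (dvd_pow_self 2 (by omega : s ≠ 0)), ← Nat.pow_div (by omega) two_pos, pow_one]
  have ho' : orderOf (c ^ 4) = 2 ^ (s - 1) := by
    rw [h4c, ← mul_inv_rev, orderOf_inv, ho]
  have hr3 : s + 1 ≤ r := by
    by_contra h
    have h5 : orderOf (c ^ 4) ∣ 2 ^ (s - 2) := by
      rw [orderOf_dvd_iff_pow_eq_one, ← pow_mul]
      refine orderOf_dvd_iff_pow_eq_one.1 ?_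
      rw [hr, show (4 : ℕ) = 2 ^ 2 by norm_num, ← pow_add]
      exact pow_dvd_pow 2 (by omega)
    rw [ho', Nat.pow_dvd_pow_iff_le_right one_lt_two] at h5
    omega
  have hcT : (⟨e, he⟩ : K) ∈ T := by
    show dl e q * dl e q ≠ 1
    rw [← hcdef, ← pow_two]
    intro h
    have := orderOf_dvd_of_pow_eq_one h
    rw [hr, show (2 : ℕ) = 2 ^ 1 by norm_num, ← pow_mul, Nat.pow_dvd_pow_iff_le_right one_lt_two] at this
    omega
  have h6 := hmax _ hcT
  simp only [← hcdef, hr, hs] at h6
  rw [Nat.pow_le_pow_iff_right one_lt_two] at h6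
  omega

/-- In an elementary quotient, the values of `dl a` on `W` are fixed by `W`. -/
theorem central_of_delta (hG : IsPGroup 2 G) {K W : Subgroup G} [K.Normal] (hK4 : Nat.card K = 4)
    (hKc : ∀ k ∈ K, ∀ l ∈ K, k * l = l * k) (hK2 : ∀ k ∈ K, k * k = 1)
    (hW : ∀ e ∈ W, ∀ f ∈ W, e * f = f * e) (hW2 : ∀ e ∈ W, e * e = 1) {a : G}
    (hdK : ∀ e ∈ W, dl a e ∈ K) (hsurj : ∀ k ∈ K, ∃ e ∈ W, dl a e = k) :
    ∀ e ∈ W, ∀ k ∈ K, e * k = k * e := by
  have : Fact (Nat.Prime 2) := ⟨Nat.prime_two⟩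
  intro e he k hk
  by_contra hne
  obtain ⟨z, hzK, hzc, hzo⟩ := PGroups.exists_mem_center_orderOf_eq hG K
    (by intro h; rw [h, card_bot] at hK4; omega)
  set F := K ⊓ centralizer ({e} : Set G)
  have hkF : k ∉ F := fun h => hne (mem_centralizer_singleton_iff.1 h.2).symm
  have hF : zpowers z = F := by
    refine eq_of_le_of_card_ge (zpowers_le.2 ⟨hzK, mem_centralizer_singleton_iff.2
      (mem_center_iff.1 hzc e).symm⟩) ?_
    have h1 := H64.RankFour.card_mul_relIndex (inf_le_left : F ≤ K)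
    have h2 : F.relIndex K ≠ 1 := fun h => hkF (relIndex_eq_one.1 h hk)
    have h3 : F.relIndex K ≠ 0 := Subgroup.index_ne_zero_of_finite
    rw [hK4] at h1
    rw [Nat.card_zpowers, hzo]
    have : 2 ≤ F.relIndex K := by omega
    nlinarith
  have hee : dl a e ∈ K → dl a e ∈ F := by
    intro h
    have h1 := dl_mul a e e
    rw [hW2 e he, show dl a (1 : G) = 1 by simp [dl]] at h1
    refine ⟨h, mem_centralizer_singleton_iff.2 ?_⟩
    have h2 : e * dl a e * e⁻¹ = dl a e := by
      rw [← inv_eq_of_mul_eq_one_left h1.symm, inv_eq_of_mul_eq_one_left (hK2 _ h)]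
    exact (mul_inv_eq_iff_eq_mul.1 h2).symm
  have hdeK : ∀ f ∈ W, dl a f ∈ K → dl a e ∈ K → dl a f ∈ F := by
    intro f hf hfK heK
    refine ⟨hfK, mem_centralizer_singleton_iff.2 ?_⟩
    have h1 := (dl_mul a e f).symm.trans ((congrArg (dl a) (hW e he f hf)).trans (dl_mul a f e))
    have hec : dl a e ∈ center G := (zpowers_le.2 hzc) (hF ▸ hee heK)
    rw [mem_center_iff.1 hec f, mul_inv_cancel_right, ← hKc _ hfK _ heK] at h1
    exact (mul_inv_eq_iff_eq_mul.1 (mul_right_cancel h1)).symm
  obtain ⟨f, hf, rfl⟩ := hsurj k hk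
  exact hkF (hdeK f hf hk (hdK e he))

/-- Modulo squares, elements with pairwise trivial commutators and all `dl a` values centralize `K`. -/
theorem dl_mem_squares (hG : IsPGroup 2 G) {K W : Subgroup G} [K.Normal] {a : G}
    (hKc : ∀ k ∈ K, ∀ l ∈ K, k * l = l * k) (hle : (squares K hKc).relIndex K ≤ 4)
    (hge : 4 ≤ (squares K hKc).relIndex K)
    (hWc : ∀ x ∈ W, ∀ y ∈ W, x * y * x⁻¹ * y⁻¹ ∈ squares K hKc) (hW2 : ∀ x ∈ W, x * x ∈ squares K hKc)
    (hdK : ∀ x ∈ W, dl a x ∈ K) (hgen : ∀ k ∈ K, ∃ w ∈ W, ∃ e ∈ K, k = e * e * dl a w) :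
    ∀ w ∈ W, ∀ k ∈ K, dl k w ∈ squares K hKc := by
  have : (squares K hKc).Normal := squares_normal hKc
  obtain ⟨π, hπdef⟩ : ∃ f : G →* G ⧸ squares K hKc, f = QuotientGroup.mk' _ := ⟨_, rfl⟩
  have hπ : ∀ x, π x = 1 ↔ x ∈ squares K hKc := fun x => by
    subst hπdef; exact QuotientGroup.eq_one_iff x
  have hsurj : Function.Surjective π := hπdef ▸ QuotientGroup.mk'_surjective _
  have hKπ : (K.map π).Normal := Subgroup.Normal.map inferInstance π hsurj
  have hcard : Nat.card ↥(K.map π) = 4 := by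
    have hk : π.ker = squares K hKc := by ext x; exact hπ x
    have h1 : (squares K hKc).relIndex K = Nat.card ↥(K.map π) :=
      (congrArg (fun L : Subgroup G => L.relIndex K) hk).symm.trans (Subgroup.relIndex_ker (K := K) π)
    omega
  have hc := central_of_delta (hG.to_quotient (squares K hKc)) (K := K.map π) (W := W.map π) (a := π a) hcard
    (by rintro _ ⟨k, hk, rfl⟩ _ ⟨l, hl, rfl⟩; rw [← map_mul, hKc k hk l hl, map_mul])
    (by rintro _ ⟨k, hk, rfl⟩; rw [← map_mul]; exact (hπ _).2 ⟨k, hk, rfl⟩)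
    (by
      rintro _ ⟨e, he, rfl⟩ _ ⟨f, hf, rfl⟩
      refine commutatorElement_eq_one_iff_mul_comm.1 ?_
      rw [← map_commutatorElement]
      exact (hπ _).2 (hWc e he f hf))
    (by rintro _ ⟨e, he, rfl⟩; rw [← map_mul]; exact (hπ _).2 (hW2 e he))
    (by rintro _ ⟨e, he, rfl⟩; rw [← map_dl]; exact mem_map_of_mem π (hdK e he))
    (by
      rintro _ ⟨k, hk, rfl⟩
      obtain ⟨w, hw, e, he, rfl⟩ := hgen k hk
      exact ⟨π w, mem_map_of_mem π hw, by rw [map_mul, (hπ _).2 ⟨e, he, rfl⟩, one_mul, map_dl]⟩)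
  intro w hw k hk
  rw [← hπ, map_dl, dl_eq_one]
  exact hc _ (mem_map_of_mem π hw) _ (mem_map_of_mem π hk)

/-- An element of a self-centralizing elementary subgroup of order eight with no larger centralizer. -/
theorem squareBound_of_card_centralizer (hG : IsPGroup 2 G) (A : Subgroup G)
    (hA2 : ∀ x ∈ A, x * x = 1) (hA8 : Nat.card A = 8) {b : G} (hb : b ∈ A) (hb1 : b ≠ 1)
    (hC : centralizer ({b} : Set G) = A) : H64.RankFour.SquareBound G := by
  classical
  have : Fact (Nat.Prime 2) := ⟨Nat.prime_two⟩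
  have := hG.isNilpotent
  intro Q N hNQ hn hsq
  by_cases hab : center G = ⊤
  · have htop : A = ⊤ := by
      rw [← hC, eq_top_iff]
      intro x _
      exact mem_centralizer_singleton_iff.2 (mem_center_iff.1 (hab.ge (mem_top b)) x)
    have : Nat.card G = 8 := by rw [← Subgroup.card_top (G := G), ← htop, hA8]
    calc N.relIndex Q ≤ Nat.card Q := Nat.le_of_dvd Nat.card_pos (index_dvd_card _)
      _ ≤ 16 := le_trans (card_le_card_group Q) (by omega)
  have hdl : ∀ x ∈ (⊤ : Subgroup G), dl b x ∈ commutator G := fun x _ =>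
    commutator_mem_commutator (mem_top x) (mem_top b)
  have h1 := card_le_card_centralizer_mul ⊤ hdl
  rw [top_inf_eq, hC, hA8, card_top, ← (commutator G).card_mul_index, mul_comm 8] at h1
  have h8 := Nat.le_of_mul_le_mul_left h1 Nat.card_pos
  obtain ⟨i, hi⟩ := hG.index (commutator G)
  by_cases h4 : (commutator G).index = 8
  · have hs : ∀ k ∈ commutator G, ∃ x, dl b x = k := fun k hk => by
      obtain ⟨x, -, hx⟩ := dl_surj ⊤ hdl (by
        rw [top_inf_eq, hC, hA8, card_top, ← (commutator G).card_mul_index, h4, mul_comm]) hk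
      exact ⟨x, hx⟩
    have hbb := hA2 b hb
    have hKc : ∀ k ∈ commutator G, ∀ l ∈ commutator G, k * l = l * k := fun k hk l hl => full_comm hbb hs hk hl
    have hV : ∀ r ∈ commutator G, r * r = 1 → r ∈ A ⊓ commutator G := by
      intro r hr hr2
      refine ⟨hC ▸ mem_centralizer_singleton_iff.2 ?_, hr⟩
      have := full_inverts hbb hs hr
      rw [← eq_inv_of_mul_eq_one_left hr2] at this
      calc r * b = b * r * b * b := by rw [this]
        _ = b * r := by rw [mul_assoc, hbb, mul_one]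
    have hV4 : Nat.card ↥(A ⊓ commutator G) ≤ 4 := by
      have h2 := H64.RankFour.card_mul_relIndex (inf_le_left : A ⊓ commutator G ≤ A)
      have h3 : (A ⊓ commutator G).relIndex A ≠ 1 := fun h =>
        full_not_mem hbb hb1 hs (relIndex_eq_one.1 h hb).2
      have h5 : (A ⊓ commutator G).relIndex A ≠ 0 := Subgroup.index_ne_zero_of_finite
      have : 2 ≤ (A ⊓ commutator G).relIndex A := by omega
      rw [hA8] at h2
      nlinarith
    by_cases hQ : Q ⊔ commutator G = ⊤
    · have hQt : Q = ⊤ := frattini_nongenerating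
        (top_le_iff.1 (hQ.ge.trans (sup_le_sup_left (PGroups.commutator_le_frattini hG) Q)))
      have hN : commutator G ≤ N := by
        rw [_root_.commutator_def, commutator_le]
        intro x _ y _
        exact H64.RankFour.comm_mem hn hsq (hQt ▸ mem_top x) (hQt ▸ mem_top y)
      rw [hQt, relIndex_top_right]
      have := Nat.le_of_dvd (Nat.pos_of_ne_zero Subgroup.index_ne_zero_of_finite) (index_dvd_of_le hN)
      omega
    · refine (section_le hKc hV hsq).trans ?_
      have h2 := relIndex_mul_index (le_sup_right : commutator G ≤ Q ⊔ commutator G)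
      rw [relIndex_sup_right, h4] at h2
      have h3 : (Q ⊔ commutator G).index ≠ 1 := fun h => hQ (index_eq_one.1 h)
      have h5 : (Q ⊔ commutator G).index ≠ 0 := Subgroup.index_ne_zero_of_finite
      have : 2 ≤ (Q ⊔ commutator G).index := by omega
      have : (commutator G).relIndex Q ≤ 4 := by nlinarith
      calc _ ≤ 4 * 4 := Nat.mul_le_mul this hV4
        _ = 16 := rfl
  · obtain ⟨n, hn'⟩ := IsPGroup.iff_card.1 hG
    have hn3 : 3 ≤ n := by
      have h := card_le_card_group A
      rw [hA8, hn', show (8 : ℕ) = 2 ^ 3 by norm_num, Nat.pow_le_pow_iff_right one_lt_two] at h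
      exact h
    have hidx : (commutator G).index = 4 := by
      have hi3 : i ≤ 2 := by
        by_contra h
        have : 2 ^ 3 ≤ 2 ^ i := Nat.pow_le_pow_right two_pos (by omega)
        omega
      interval_cases i
      all_goals first
        | (rw [hi]; norm_num; done)
        | (exfalso
           have hf : (frattini G).index ∣ 2 :=
            (index_dvd_of_le (PGroups.commutator_le_frattini hG)).trans (by rw [hi]; norm_num)
           have : IsCyclic (G ⧸ frattini G) := by
            rw [index_eq_card] at hf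
            rcases (Nat.dvd_prime Nat.prime_two).1 hf with h | h
            · have := (Nat.card_eq_one_iff_unique.mp h).1
              exact isCyclic_of_subsingleton
            · exact isCyclic_of_prime_card (p := 2) h
           have := PGroups.isCyclic_of_frattini (G := G)
           exact hab (eq_top_iff.2 fun x _ => mem_center_iff.2 fun g => mul_comm' g x))
    obtain ⟨c, hc⟩ := PGroups.exists_cyclic_index_two n G hn3 hn'
      (PGroups.maxClass_of_index_commutator n G hn3 hn' hidx)
    refine H64.RankFour.squareBound_of_cyclic (c := c) ?_ Q N hNQ hn hsq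
    have h2 := (zpowers c).card_mul_index
    rw [Nat.card_zpowers, hc, hn', show n = n - 1 + 1 by omega, pow_succ, Nat.add_sub_cancel] at h2
    rw [Nat.eq_of_mul_eq_mul_left (by positivity) h2]
    norm_num

end Cfsg.Agent.H32.Harada
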