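import Cfsg.Agent.H32.Harada.Basic

/-!
The case of a normal four-group inside the self-centralizing elementary abelian subgroup of order eight.
-/

set_option autoImplicit false
set_option maxHeartbeats 800000

namespace Cfsg.Agent.H32.Harada

open Subgroup

variable {S : Type*} [Group S] [Finite S]

/-- A normal four-group and a central involution in it. -/
theorem four_group (hS : IsPGroup 2 S) {U : Subgroup S} [U.Normal] (hU4 : Nat.card U = 4)
    (hU2 : ∀ x ∈ U, x * x = 1) :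
    ∃ z u : S, z ∈ U ∧ u ∈ U ∧ z ∈ center S ∧ z ≠ 1 ∧ u ≠ 1 ∧ u ≠ z ∧
      (∀ x ∈ U, x = 1 ∨ x = z ∨ x = u ∨ x = u * z) ∧ (∀ s : S, s * u * s⁻¹ = u ∨ s * u * s⁻¹ = u * z) := by
  classical
  have : Fact (Nat.Prime 2) := ⟨Nat.prime_two⟩
  obtain ⟨z, hzU, hzc, hzo⟩ := PGroups.exists_mem_center_orderOf_eq hS U
    (by intro h; rw [h, card_bot] at hU4; omega)
  have hz1 : z ≠ 1 := fun h => by rw [h, orderOf_one] at hzo; omega
  obtain ⟨u, hu, hu1, huz⟩ : ∃ u ∈ U, u ≠ 1 ∧ u ≠ z := by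
    by_contra h
    push Not at h
    have hle : U ≤ zpowers z := fun x hx => by
      by_cases hx1 : x = 1
      · exact hx1 ▸ one_mem _
      · exact h x hx hx1 ▸ mem_zpowers z
    have := card_le_of_le hle
    rw [hU4, Nat.card_zpowers, hzo] at this
    omega
  have hall : ∀ x ∈ U, x = 1 ∨ x = z ∨ x = u ∨ x = u * z := by
    intro x hx
    by_contra h
    push Not at h
    have : Fintype U := Fintype.ofFinite _
    have hsub : ({1, ⟨z, hzU⟩, ⟨u, hu⟩, ⟨u * z, mul_mem hu hzU⟩, ⟨x, hx⟩} : Finset U).card ≤ 4 := by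
      refine le_trans (Finset.card_le_univ _) ?_
      rw [← hU4, Nat.card_eq_fintype_card]
    have h1 : u * z ≠ 1 := fun e => huz (by
      rw [eq_inv_of_mul_eq_one_left e, inv_eq_of_mul_eq_one_right (hU2 z hzU)])
    have h2 : u * z ≠ z := fun e => hu1 (mul_eq_right.1 e)
    have h3 : u * z ≠ u := fun e => hz1 (mul_eq_left.1 e)
    rw [Finset.card_insert_of_notMem, Finset.card_insert_of_notMem, Finset.card_insert_of_notMem,
      Finset.card_insert_of_notMem, Finset.card_singleton] at hsub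
    · omega
    all_goals simp [Subtype.ext_iff, Ne.symm h.1, Ne.symm h.2.1, Ne.symm h.2.2.1, Ne.symm h.2.2.2, Ne.symm hz1,
      Ne.symm hu1, Ne.symm huz, Ne.symm h1, Ne.symm h2, Ne.symm h3]
  refine ⟨z, u, hzU, hu, hzc, hz1, hu1, huz, hall, fun s => ?_⟩
  rcases hall _ (Subgroup.Normal.conj_mem inferInstance u hu s) with h | h | h | h
  · exact absurd (conj_eq_one_iff.1 h) hu1
  · refine absurd ?_ huz
    calc u = s⁻¹ * (s * u * s⁻¹) * s := by group
      _ = s⁻¹ * z * s := by rw [h]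
      _ = z := by rw [mem_center_iff.1 hzc s⁻¹]; group
  · exact Or.inl h
  · exact Or.inr h

/-- The centralizer of a normal four-group has index at most two. -/
theorem index_centralizer_le (hS : IsPGroup 2 S) {U : Subgroup S} [U.Normal] (hU4 : Nat.card U = 4)
    (hU2 : ∀ x ∈ U, x * x = 1) : (centralizer (U : Set S)).index ≤ 2 := by
  by_cases htop : centralizer (U : Set S) = ⊤
  · rw [htop, index_top]; norm_num
  obtain ⟨z, u, hzU, hu, hzc, -, -, -, hall, hmove⟩ := four_group hS hU4 hU2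
  have hmem : ∀ s : S, s * u * s⁻¹ = u → s ∈ centralizer (U : Set S) := by
    intro s hs
    rw [mem_centralizer_iff]
    intro x hx
    have h1 : u * s = s * u := (mul_inv_eq_iff_eq_mul.1 hs).symm
    have h2 : z * s = s * z := (mem_center_iff.1 hzc s).symm
    rcases hall x hx with rfl | rfl | rfl | rfl
    · simp
    · exact h2
    · exact h1
    · calc u * z * s = u * (z * s) := mul_assoc ..
        _ = (u * s) * z := by rw [h2, mul_assoc]
        _ = s * (u * z) := by rw [h1, mul_assoc]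
  obtain ⟨t, ht⟩ : ∃ t, t ∉ centralizer (U : Set S) := by
    by_contra h; push Not at h; exact htop (eq_top_iff.2 fun x _ => h x)
  refine le_of_eq (index_eq_two_iff.2 ⟨t, fun s => ?_⟩)
  have hin : ∀ v ∈ centralizer (U : Set S), v * u * v⁻¹ = u := fun v hv =>
    mul_inv_eq_iff_eq_mul.2 ((mem_centralizer_iff.1 hv) u hu).symm
  have htu : t * u * t⁻¹ = u * z := (hmove t).resolve_left fun h => ht (hmem t h)
  rcases hmove s with h | h
  · refine Or.inr ⟨hmem s h, fun hst => ht ?_⟩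
    exact (mul_mem_cancel_left (hmem s h)).1 hst
  · refine Or.inl ⟨hmem _ ?_, fun hs => ?_⟩
    · calc s * t * u * (s * t)⁻¹ = s * (t * u * t⁻¹) * s⁻¹ := by group
        _ = (s * u * s⁻¹) * (s * z * s⁻¹) := by rw [htu]; group
        _ = u * z * z := by rw [h, mem_center_iff.1 hzc s, mul_inv_cancel_right]
        _ = u := by rw [mul_assoc, hU2 z hzU, mul_one]
    · have h1 := hin s hs
      rw [h, mul_eq_left] at h1
      exact absurd (hU2 z hzU) (fun _ => ‹¬ centralizer (U : Set S) = ⊤› (eq_top_iff.2 fun x _ => hmem x (by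
        rcases hmove x with e | e
        · exact e
        · rw [e, h1, mul_one])))

/-- The final computation: an element outside `C` cannot move `u`. -/
theorem caseOne_final (hS : IsPGroup 2 S) {A U C K Q : Subgroup S} [U.Normal] (hU4 : Nat.card U = 4)
    (hU2 : ∀ x ∈ U, x * x = 1) (hUcomm : ∀ x ∈ C, ∀ v ∈ U, x * v = v * x) (hAC : A ≤ C) {b t q k₁ : S}
    (hbA : b ∈ A) (hAc : ∀ x ∈ A, ∀ y ∈ A, x * y = y * x) (hUA : U ≤ A)
    (hKc : ∀ k ∈ K, ∀ l ∈ K, k * l = l * k) (hKn : K.Normal) (hKC : K ≤ C) (hUK : U ≤ K)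
    (hinv : ∀ k ∈ K, b * k * b = k⁻¹) (hdK : ∀ x ∈ C, dl b x ∈ K) (hdlK : ∀ k ∈ K, dl b k = k * k)
    (hCdef : C = centralizer (U : Set S)) (htbt : t * b * t⁻¹ = b) (htC : t ∉ C)
    (hcommW : ∀ x ∈ Q, ∀ y ∈ Q, x * y * x⁻¹ * y⁻¹ ∈ squares K hKc) (hsqW : ∀ x ∈ Q, x * x ∈ squares K hKc)
    (hgen : ∀ k ∈ K, ∃ w ∈ Q ⊓ C, ∃ e ∈ K, k = e * e * dl b w)
    (hWK : ∀ w ∈ Q ⊓ C, ∀ k ∈ K, dl k w ∈ squares K hKc)
    (hq : q ∈ Q) (hk₁ : k₁ ∈ K) (hqt : q = k₁ * t ∨ q = k₁ * b * t) : False := by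
  classical
  have : Fact (Nat.Prime 2) := ⟨Nat.prime_two⟩
  have hbb : b * b = 1 := by
    have h := hinv 1 (one_mem K)
    rwa [mul_one, inv_one] at h
  have hbi : b⁻¹ = b := inv_eq_of_mul_eq_one_right hbb
  set K2 := squares K hKc
  have hK2n : K2.Normal := squares_normal hKc
  have hK2K : K2 ≤ K := squares_le hKc
  set W := Q ⊓ C
  -- fourth powers
  let F : Set S := {x | ∃ e ∈ K, x = e * e * (e * e)}
  have hFmul : ∀ x ∈ F, ∀ y ∈ F, x * y ∈ F := by
    rintro _ ⟨e, he, rfl⟩ _ ⟨f, hf, rfl⟩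
    have hef : Commute e f := hKc e he f hf
    refine ⟨e * f, mul_mem he hf, ?_⟩
    calc e * e * (e * e) * (f * f * (f * f)) = e ^ 4 * f ^ 4 := by simp only [pow_succ, pow_zero, one_mul, mul_assoc]
      _ = (e * f) ^ 4 := (hef.mul_pow 4).symm
      _ = _ := by simp only [pow_succ, pow_zero, one_mul, mul_assoc]
  have hF2 : ∀ x ∈ K2, x * x ∈ F := by
    rintro _ ⟨e, he, rfl⟩
    exact ⟨e, he, rfl⟩
  have hFinv : ∀ x ∈ F, x⁻¹ ∈ F := by
    rintro _ ⟨e, he, rfl⟩
    exact ⟨e⁻¹, inv_mem he, by group⟩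
  have hFconj : ∀ (g : S), ∀ x ∈ F, g * x * g⁻¹ ∈ F := by
    rintro g _ ⟨e, he, rfl⟩
    exact ⟨g * e * g⁻¹, hKn.conj_mem e he g, by group⟩
  have hFK2 : ∀ x ∈ F, x ∈ K2 := by
    rintro _ ⟨e, he, rfl⟩
    exact ⟨e * e, mul_mem he he, rfl⟩
  have hdlmul : ∀ g : S, ∀ k ∈ K, ∀ l ∈ K, dl (k * l) g = dl k g * dl l g := by
    intro g k hk l hl
    have h1 : g * l * g⁻¹ * l⁻¹ ∈ K := mul_mem (hKn.conj_mem l hl g) (inv_mem hl)
    simp only [dl]
    calc g * (k * l) * g⁻¹ * (k * l)⁻¹ = (g * k * g⁻¹) * ((g * l * g⁻¹ * l⁻¹) * k⁻¹) := by group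
      _ = g * k * g⁻¹ * (k⁻¹ * (g * l * g⁻¹ * l⁻¹)) := by rw [hKc _ h1 _ (inv_mem hk)]
      _ = _ := by group
  have hdlF : ∀ w ∈ W, ∀ k ∈ K, dl (k * k) w ∈ F := fun w hw k hk => by
    rw [hdlmul w k hk k hk]; exact hF2 _ (hWK w hw k hk)
  have hkb : k₁ * b * k₁⁻¹ = k₁ * k₁ * b := by rw [conj_eq_dl_mul, hdlK k₁ hk₁]
  obtain ⟨s, hsdef⟩ : ∃ s, s = k₁ * k₁ := ⟨_, rfl⟩
  have hqb : q * b * q⁻¹ = s * b := by
    rcases hqt with rfl | rfl
    · calc k₁ * t * b * (k₁ * t)⁻¹ = k₁ * (t * b * t⁻¹) * k₁⁻¹ := by group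
        _ = _ := by rw [htbt, hkb, hsdef]
    · calc k₁ * b * t * b * (k₁ * b * t)⁻¹ = k₁ * b * (t * b * t⁻¹) * b⁻¹ * k₁⁻¹ := by group
        _ = k₁ * b * k₁⁻¹ := by rw [htbt]; group
        _ = _ := by rw [hkb, hsdef]
  obtain ⟨z, u, hzU, hu, hzc, hz1, hu1, huz, hall, hmove⟩ := four_group hS hU4 hU2
  have hqu : dl u q = z := by
    have htu : t * u * t⁻¹ = u * z := (hmove t).resolve_left fun h => htC (by
      rw [hCdef, mem_centralizer_iff]
      intro x hx
      have h1 : u * t = t * u := (mul_inv_eq_iff_eq_mul.1 h).symm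
      have h2 : z * t = t * z := (mem_center_iff.1 hzc t).symm
      rcases hall x hx with rfl | rfl | rfl | rfl
      · simp
      · exact h2
      · exact h1
      · rw [mul_assoc, h2, ← mul_assoc, h1, mul_assoc])
    have hcu : ∀ c ∈ C, c * (u * z) * c⁻¹ = u * z := fun c hc =>
      mul_inv_eq_iff_eq_mul.2 (hUcomm c hc _ (mul_mem hu hzU))
    have hfin : q * u * q⁻¹ = u * z := by
      rcases hqt with rfl | rfl
      · calc k₁ * t * u * (k₁ * t)⁻¹ = k₁ * (t * u * t⁻¹) * k₁⁻¹ := by group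
          _ = _ := by rw [htu, hcu _ (hKC hk₁)]
      · calc k₁ * b * t * u * (k₁ * b * t)⁻¹ = (k₁ * b) * (t * u * t⁻¹) * (k₁ * b)⁻¹ := by group
          _ = _ := by rw [htu, hcu _ (mul_mem (hKC hk₁) (hAC hbA))]
    rw [dl, hfin, hAc _ (hUA hu) _ (hUA hzU), mul_inv_cancel_right]
  -- the element of `W` whose commutator with `b` is `u`
  obtain ⟨w, hw, e, he, hue⟩ := hgen u (hUK hu)
  have hswap : ∀ x ∈ W, dl (dl b x) w ∈ F := by
    intro x hx
    obtain ⟨c, hc⟩ : ∃ c, c = w * x * w⁻¹ * x⁻¹ := ⟨_, rfl⟩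
    have hcK2 : c ∈ K2 := hc ▸ hcommW w hw.1 x hx.1
    have hcK := hK2K hcK2
    have h1 : w * dl b x * w⁻¹ * dl b w = c * c * (x * dl b w * x⁻¹ * dl b x) := by
      rw [← dl_mul, show w * x = c * (x * w) by rw [hc]; group, dl_mul, hdlK c hcK, ← dl_mul]
      rw [hKc c hcK _ (hdK _ (mul_mem hx.2 hw.2)), mul_inv_cancel_right]
      exact hKc _ (hdK _ (mul_mem hx.2 hw.2)) _ (mul_mem hcK hcK)
    have hxw : dl (dl b w) x ∈ F := by
      have hwv : dl b w = e⁻¹ * e⁻¹ * u := by rw [hue]; group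
      rw [hwv, hdlmul x _ (mul_mem (inv_mem he) (inv_mem he)) _ (hUK hu),
        show dl u x = 1 from dl_eq_one.2 (hUcomm x hx.2 u hu), mul_one]
      exact hdlF x hx e⁻¹ (inv_mem he)
    have hxd := hdK x hx.2
    have hwd := hdK w hw.2
    have h2 : dl (dl b x) w = c * c * dl (dl b w) x := by
      have h3 : dl (dl b x) w = (w * dl b x * w⁻¹ * dl b w) * ((dl b w)⁻¹ * (dl b x)⁻¹) := by
        simp only [dl]; group
      rw [h3, h1, hKc _ (inv_mem hwd) _ (inv_mem hxd)]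
      simp only [dl]; group
    rw [h2]
    exact hFmul _ (hF2 c hcK2) _ hxw
  have hw4 : ∀ k ∈ K, ∃ f ∈ K, dl k w = f * f * (f * f) := by
    intro k hk
    obtain ⟨x, hx, f, hf, rfl⟩ := hgen k hk
    rw [hdlmul w _ (mul_mem hf hf) _ (hdK x hx.2)]
    exact hFmul _ (hdlF w hw f hf) _ (hswap x hx)
  have hw2K : w * w ∈ K2 := hsqW w hw.1
  have hinvol : ∀ k ∈ K, dl k w * dl k w = 1 := fun k hk =>
    moved_sq_eq_one hS hKc (fun l hl => hKn.conj_mem l hl w) (fun l hl => hKc _ (hK2K hw2K) l hl) hw4 hk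
  have hfix : ∀ x ∈ K2, w * x = x * w := by
    rintro _ ⟨f, hf, rfl⟩
    rw [← dl_eq_one, hdlmul w f hf f hf]
    exact hinvol f hf
  -- the action of `q`
  have hq2 : ∀ k ∈ K, q * q * k = k * (q * q) := fun k hk => hKc _ (hK2K (hsqW q hq)) k hk
  have hTw : ∀ x ∈ W, ∃ m ∈ K2, q * x * q⁻¹ = x * m ∧
      dl (dl b x) q = x * (m * m) * x⁻¹ * dl s x := by
    intro x hx
    obtain ⟨m, hm⟩ : ∃ m, m = x⁻¹ * q * x⁻¹⁻¹ * q⁻¹ := ⟨_, rfl⟩
    have hmK2 : m ∈ K2 := hm ▸ hcommW _ (inv_mem hx.1) q hq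
    have hmK := hK2K hmK2
    have e1 : q * x * q⁻¹ = x * m := by rw [hm]; group
    refine ⟨m, hmK2, e1, ?_⟩
    have e2 : q * dl b x * q⁻¹ = dl (s * b) (x * m) := by
      rw [← hqb, ← e1]; simp only [dl]; group
    have hsK : s ∈ K := hsdef ▸ mul_mem hk₁ hk₁
    have e3 : b * m⁻¹ * b = m := by rw [hinv _ (inv_mem hmK), inv_inv]
    have e4 : x * (m * m) * x⁻¹ ∈ K := hKn.conj_mem _ (mul_mem hmK hmK) x
    have e5 : x * s * x⁻¹ ∈ K := hKn.conj_mem _ hsK x
    have e6 := hdK x hx.2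
    have e7 : dl (s * b) (x * m) = x * (m * m) * x⁻¹ * (x * s * x⁻¹) * dl b x * s⁻¹ := by
      calc dl (s * b) (x * m) = x * (m * s) * (b * m⁻¹ * b) * b⁻¹ * x⁻¹ * b⁻¹ * s⁻¹ := by
            simp only [dl]; group
        _ = x * (m * s * m) * (b * x⁻¹ * b⁻¹) * s⁻¹ := by
            rw [e3, hbi]; group
        _ = x * (m * (m * s)) * (b * x⁻¹ * b⁻¹) * s⁻¹ := by rw [mul_assoc m s m, hKc s hsK m hmK]
        _ = _ := by simp only [dl]; group
    show q * dl b x * q⁻¹ * (dl b x)⁻¹ = _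
    rw [e2, e7]
    rw [show dl s x = x * s * x⁻¹ * s⁻¹ from rfl]
    rw [mul_assoc (x * (m * m) * x⁻¹ * (x * s * x⁻¹) * dl b x) s⁻¹,
      hKc _ (inv_mem hsK) _ (inv_mem e6)]
    group
  have hdlq : ∀ k ∈ K, dl k q ∈ K := fun k hk => mul_mem (hKn.conj_mem k hk q) (inv_mem hk)
  have hqK2 : ∀ k ∈ K, dl k q ∈ K2 := by
    intro k hk
    obtain ⟨x, hx, f, hf, rfl⟩ := hgen k hk
    rw [hdlmul q _ (mul_mem hf hf) _ (hdK x hx.2), hdlmul q f hf f hf]
    refine mul_mem ⟨_, hdlq f hf, rfl⟩ ?_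
    obtain ⟨m, hm, -, e2⟩ := hTw x hx
    rw [e2]
    exact mul_mem (hK2n.conj_mem _ (mul_mem hm hm) x) (hWK x hx s (hsdef ▸ mul_mem hk₁ hk₁))
  have hq4 : ∀ k ∈ K, ∃ f ∈ K, dl k q = f * f * (f * f) := by
    intro k hk
    obtain ⟨x, hx, f, hf, rfl⟩ := hgen k hk
    rw [hdlmul q _ (mul_mem hf hf) _ (hdK x hx.2), hdlmul q f hf f hf]
    obtain ⟨m, hm, -, e2⟩ := hTw x hx
    refine hFmul _ (hF2 _ (hqK2 f hf)) _ ?_
    rw [e2]
    refine hFmul _ (hFconj x _ (hF2 m hm)) _ ?_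
    rw [hsdef]
    exact hdlF x hx k₁ hk₁
  have hT2 : ∀ k ∈ K, dl (k * k) q = 1 := fun k hk => by
    rw [hdlmul q k hk k hk]
    exact moved_sq_eq_one hS hKc (fun l hl => hKn.conj_mem l hl q) hq2 hq4 hk
  -- the contradiction
  obtain ⟨m, hm, e1, e2⟩ := hTw w hw
  have hz : z = m * m := by
    have h1 : dl u q = dl (dl b w) q := by
      rw [hue, hdlmul q _ (mul_mem he he) _ (hdK w hw.2), hT2 e he, one_mul]
    rw [← hqu, h1, e2, hfix _ (mul_mem hm hm), mul_inv_cancel_right,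
      dl_eq_one.2 (hfix s (hsdef ▸ ⟨k₁, hk₁, rfl⟩)), mul_one]
  obtain ⟨f, hf, hwf⟩ := hw2K
  have h5 : q * (w * w) * q⁻¹ = w * w := by
    have h6 := hT2 f hf
    rw [hwf] at h6
    exact mul_inv_eq_iff_eq_mul.2 (dl_eq_one.1 h6)
  have h7 : q * (w * w) * q⁻¹ = w * w * (m * m) := by
    calc q * (w * w) * q⁻¹ = q * w * q⁻¹ * (q * w * q⁻¹) := by group
      _ = w * (m * w) * m := by rw [e1]; group
      _ = _ := by rw [← hfix m hm]; group
  rw [h5] at h7
  exact hz1 (hz.trans (mul_eq_left.1 h7.symm))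


/-- If a normal four-group lies in a self-centralizing elementary abelian subgroup of order eight, all
elementary sections have order at most sixteen. -/
theorem caseOne (hS : IsPGroup 2 S) {A U : Subgroup S} [U.Normal] (hA2 : ∀ x ∈ A, x * x = 1)
    (hAc : ∀ x ∈ A, ∀ y ∈ A, x * y = y * x) (hA8 : Nat.card A = 8) (hC : centralizer (A : Set S) = A)
    (hUA : U ≤ A) (hU4 : Nat.card U = 4) : H64.RankFour.SquareBound S := by
  classical
  have : Fact (Nat.Prime 2) := ⟨Nat.prime_two⟩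
  have hU2 : ∀ x ∈ U, x * x = 1 := fun x hx => hA2 x (hUA hx)
  obtain ⟨b, hbA, hbU⟩ : ∃ b ∈ A, b ∉ U := by
    by_contra h; push Not at h
    have := card_le_of_le (show A ≤ U from h); omega
  have hb1 : b ≠ 1 := fun h => hbU (h ▸ one_mem U)
  have hbb := hA2 b hbA
  by_cases hCb : centralizer ({b} : Set S) = A
  · exact squareBound_of_card_centralizer hS A hA2 hA8 hbA hb1 hCb
  set C := centralizer (U : Set S) with hCdef
  have hCn : C.Normal := by rw [hCdef]; infer_instance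
  have hAC : A ≤ C := fun x hx => mem_centralizer_iff.2 fun y hy => hAc y (hUA hy) x hx
  have hgenA : A ≤ U ⊔ zpowers b := by
    refine le_of_eq (eq_of_le_of_card_ge (sup_le hUA (zpowers_le.2 hbA)) ?_).symm
    have h1 := H64.RankFour.card_mul_relIndex (le_sup_left : U ≤ U ⊔ zpowers b)
    have h2 : U.relIndex (U ⊔ zpowers b) ≠ 1 := fun h =>
      hbU (relIndex_eq_one.1 h (mem_sup_right (mem_zpowers b)))
    have h3 : U.relIndex (U ⊔ zpowers b) ≠ 0 := Subgroup.index_ne_zero_of_finite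
    have : 2 ≤ U.relIndex (U ⊔ zpowers b) := by omega
    rw [hA8, ← h1, hU4]
    omega
  have hCCb : C ⊓ centralizer ({b} : Set S) = A := by
    refine le_antisymm (fun x hx => ?_) (le_inf hAC fun x hx => mem_centralizer_singleton_iff.2 (hAc x hx b hbA))
    rw [← hC, mem_centralizer_iff]
    intro a ha
    have hle : U ⊔ zpowers b ≤ centralizer ({x} : Set S) := by
      refine sup_le (fun v hv => ?_) (zpowers_le.2 ?_)
      · exact mem_centralizer_singleton_iff.2 ((mem_centralizer_iff.1 hx.1) v hv)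
      · exact mem_centralizer_singleton_iff.2 (mem_centralizer_singleton_iff.1 hx.2).symm
    exact mem_centralizer_singleton_iff.1 (hle (hgenA ha))
  obtain ⟨t, htb, htA⟩ : ∃ t ∈ centralizer ({b} : Set S), t ∉ A := by
    by_contra h; push Not at h
    exact hCb (le_antisymm h fun x hx => (hCCb.ge hx).2)
  have htC : t ∉ C := fun h => htA (hCCb.le ⟨h, htb⟩)
  have htb' := mem_centralizer_singleton_iff.1 htb
  have hCidx : C.index ≤ 2 := index_centralizer_le hS hU4 hU2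
  have hCQ : ∀ Q : Subgroup S, C.relIndex Q ≤ 2 := fun Q =>
    (relIndex_le_of_le_right (le_top : Q ≤ ⊤) Subgroup.index_ne_zero_of_finite).trans
      (by rwa [relIndex_top_right])
  have hCb16 : Nat.card ↥(centralizer ({b} : Set S)) ≤ 16 := by
    rw [← H64.RankFour.card_inf_mul_relIndex _ C, inf_comm, hCCb, hA8]
    have := hCQ (centralizer ({b} : Set S))
    omega
  intro Q N hNQ hn hsq
  by_contra hbad
  push Not at hbad
  have hcardS : 16 < Nat.card S := by
    have h1 : N.relIndex Q ≤ Nat.card Q := Nat.le_of_dvd Nat.card_pos (index_dvd_card _)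
    have := card_le_card_group Q
    omega
  -- the derived subgroup of the centralizer
  have hnaC : center ↥C ≠ ⊤ := by
    intro h
    have hle : C ≤ A := fun x hx => hCCb.le ⟨hx, mem_centralizer_singleton_iff.2
      (congrArg Subtype.val (mem_center_iff.1 (h.ge (mem_top (⟨b, hAC hbA⟩ : C))) ⟨x, hx⟩))⟩
    have h1 := C.card_mul_index
    have h2 := card_le_of_le hle
    rw [hA8] at h2
    have : Nat.card C * C.index ≤ 8 * 2 := Nat.mul_le_mul h2 hCidx
    omega
  have hZC : 4 ≤ Nat.card (center ↥C) := by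
    rw [← hU4]
    refine Nat.card_le_card_of_injective (fun x : U => (⟨⟨x, hAC (hUA x.2)⟩, mem_center_iff.2 fun g =>
      Subtype.ext ((mem_centralizer_iff.1 g.2) x x.2).symm⟩ : center ↥C)) fun x y h =>
      Subtype.ext (congrArg (fun v : center ↥C => ((v : C) : S)) h)
  set K := ⁅C, C⁆
  have hKn : K.Normal := Subgroup.commutator_normal C C
  have hKC : K ≤ C := commutator_le_self C
  have hKidx : K.relIndex C = (commutator ↥C).index := by
    rw [show K = (commutator ↥C).map C.subtype from (map_subtype_commutator C).symm, relIndex]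
    congr 1
    exact comap_map_eq_self_of_injective C.subtype_injective _
  have hdK : ∀ x ∈ C, dl b x ∈ K := fun x hx => commutator_mem_commutator hx (hAC hbA)
  have h8 : K.relIndex C = 8 := by
    refine le_antisymm ?_ (hKidx ▸ eight_le_index_commutator (hS.to_subgroup C) hZC hnaC)
    have h1 := card_le_card_centralizer_mul C hdK
    rw [hCCb, hA8, ← H64.RankFour.card_mul_relIndex hKC, mul_comm 8] at h1
    exact Nat.le_of_mul_le_mul_left h1 Nat.card_pos
  have hsurj : ∀ k ∈ K, ∃ x ∈ C, dl b x = k := fun k hk => dl_surj C hdK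
    (by rw [hCCb, hA8, ← H64.RankFour.card_mul_relIndex hKC, h8, mul_comm]) hk
  have hs : ∀ k ∈ K, ∃ x, dl b x = k := fun k hk => by
    obtain ⟨x, -, hx⟩ := hsurj k hk
    exact ⟨x, hx⟩
  have hinv : ∀ k ∈ K, b * k * b = k⁻¹ := fun k hk => full_inverts hbb hs hk
  have hbi : b⁻¹ = b := inv_eq_of_mul_eq_one_right hbb
  have hKc : ∀ k ∈ K, ∀ l ∈ K, k * l = l * k := fun k hk l hl => full_comm hbb hs hk hl
  have hbK : b ∉ K := full_not_mem hbb hb1 hs
  have hdlK : ∀ k ∈ K, dl b k = k * k := fun k hk => by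
    calc dl b k = k * (b * k⁻¹ * b) := by simp only [dl, hbi]; group
      _ = k * k := by rw [hinv _ (inv_mem hk), inv_inv]
  have hUcomm : ∀ x ∈ C, ∀ v ∈ U, x * v = v * x := fun x hx v hv => ((mem_centralizer_iff.1 hx) v hv).symm
  have hV : ∀ r ∈ K, r * r = 1 → r ∈ U ⊓ K := by
    intro r hr hr2
    refine ⟨?_, hr⟩
    have hrb : r * b = b * r := by
      have h1 := hinv r hr
      rw [← eq_inv_of_mul_eq_one_left hr2] at h1
      calc r * b = b * r * b * b := by rw [h1]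
        _ = b * r := by rw [mul_assoc, hbb, mul_one]
    have hrA : r ∈ A := hCCb.le ⟨hKC hr, mem_centralizer_singleton_iff.2 hrb⟩
    by_contra hrU
    -- `b r` lies in `U`, so is central in `C` and conjugate to `b`
    have hidx : (U.subgroupOf A).index = 2 := by
      have := H64.RankFour.card_mul_relIndex hUA
      rw [hU4, hA8, relIndex] at this
      omega
    have hbr : b * r ∈ U := (mul_mem_iff_of_index_two hidx (a := ⟨b, hbA⟩) (b := ⟨r, hrA⟩)).2
      ⟨fun h => absurd h hbU, fun h => absurd h hrU⟩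
    obtain ⟨x, hx, hxr⟩ := hsurj r hr
    have h1 : x * b * x⁻¹ = b * r := by rw [conj_eq_dl_mul, hxr, hrb]
    have h2 : b = x⁻¹ * (b * r) * x := by rw [← h1]; group
    rw [mul_assoc, ← hUcomm x hx _ hbr, inv_mul_cancel_left] at h2
    exact hbU (h2 ▸ hbr)
  have hV4 : Nat.card ↥(U ⊓ K) ≤ 4 := hU4 ▸ card_le_of_le inf_le_left
  -- the section avoids the class of `b`
  have havoid : ∀ k ∈ K, k * b ∉ Q := by
    intro k hk h
    obtain ⟨x, -, rfl⟩ := hsurj k hk
    rw [← conj_eq_dl_mul] at h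
    have h1 := section_le_centralizer hNQ hn hsq h
    have h2 := card_le_of_le (inf_le_right : Q ⊓ centralizer {x * b * x⁻¹} ≤ _)
    rw [card_centralizer_conj] at h2
    omega
  set W := Q ⊓ C
  have hWle : W ≤ Q := inf_le_left
  have hsupn : ∀ x ∈ W ⊔ K, ∃ w ∈ W, ∃ k ∈ K, w * k = x := fun x hx => by
    have hx' : x ∈ ((W ⊔ K : Subgroup S) : Set S) := hx
    rw [Subgroup.mul_normal] at hx'
    exact hx'
  have hWK8 : K.relIndex W ≤ 4 := by
    have h1 : K.relIndex W ∣ 8 := by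
      rw [← relIndex_sup_right, ← h8]
      exact ⟨_, (relIndex_mul_relIndex K (W ⊔ K) C le_sup_right (sup_le inf_le_right hKC)).symm⟩
    by_contra h5
    push Not at h5
    have h88 : K.relIndex W = 8 := by
      obtain ⟨i, hi, hi'⟩ := (Nat.dvd_prime_pow Nat.prime_two).1 (show K.relIndex W ∣ 2 ^ 3 from h1)
      exact dvd_eight hi' h5 (Nat.le_of_dvd (by norm_num) h1)
    have hWC : C ≤ W ⊔ K := by
      rw [← relIndex_eq_one]
      have := relIndex_mul_relIndex K (W ⊔ K) C le_sup_right (sup_le inf_le_right hKC)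
      rw [relIndex_sup_right, h88, h8] at this
      omega
    obtain ⟨w, hw, k, hk, hwk⟩ := hsupn b (hWC (hAC hbA))
    refine havoid (b * k⁻¹ * b) ?_ ?_
    · rw [hinv _ (inv_mem hk), inv_inv]; exact hk
    · rw [mul_assoc, hbb, mul_one, ← hwk, mul_inv_cancel_right]
      exact hWle hw
  have hsplit : K.relIndex Q = K.relIndex W * C.relIndex Q := by
    rw [← inf_relIndex_left Q K, ← inf_relIndex_left Q C,
      ← relIndex_mul_relIndex (Q ⊓ K) W Q (inf_le_inf_left Q hKC) inf_le_left, ← inf_relIndex_right K W]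
    congr 2
    symm
    show K ⊓ (Q ⊓ C) = Q ⊓ K
    rw [← inf_assoc, inf_comm K Q, inf_assoc, inf_eq_left.2 hKC]
  have he : K.relIndex Q ≤ 8 := by
    rw [hsplit]
    calc _ ≤ 4 * 2 := Nat.mul_le_mul hWK8 (hCQ Q)
      _ = 8 := rfl
  obtain ⟨he8, hNK2⟩ := bad_section hS hKc hV hV4 hNQ hsq he hbad
  have hV44 : Nat.card ↥(U ⊓ K) = 4 := by
    by_contra h
    have h1 := section_le hKc hV hsq (Q := Q)
    have h2 : Nat.card ↥(U ⊓ K) ≤ 2 := by
      have h3 := H64.RankFour.card_mul_relIndex (inf_le_left : U ⊓ K ≤ U)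
      rw [hU4] at h3
      have h5 : (U ⊓ K).relIndex U ≠ 1 := fun e => h (by rw [e, mul_one] at h3; exact h3)
      have h6 : (U ⊓ K).relIndex U ≠ 0 := Subgroup.index_ne_zero_of_finite
      have : 2 ≤ (U ⊓ K).relIndex U := by omega
      nlinarith
    rw [he8] at h1
    nlinarith
  have hUK : U ≤ K := by
    rw [← inf_eq_left]
    exact eq_of_le_of_card_ge inf_le_left (hU4.trans hV44.symm).le
  have hW4 : K.relIndex W = 4 ∧ C.relIndex Q = 2 := by
    have h1 := hCQ Q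
    rw [hsplit] at he8
    constructor <;> nlinarith
  set K2 := squares K hKc
  have hK2n : K2.Normal := squares_normal hKc
  have hK2K : K2 ≤ K := squares_le hKc
  have hcommW : ∀ x ∈ Q, ∀ y ∈ Q, x * y * x⁻¹ * y⁻¹ ∈ K2 := fun x hx y hy =>
    hNK2 (H64.RankFour.comm_mem hn hsq hx hy)
  -- decomposition of the centralizer
  have hbWK : b ∉ W ⊔ K := by
    intro h
    obtain ⟨w, hw, k, hk, hwk⟩ := hsupn b h
    refine havoid (b * k⁻¹ * b) ?_ ?_
    · rw [hinv _ (inv_mem hk), inv_inv]; exact hk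
    · rw [mul_assoc, hbb, mul_one, ← hwk, mul_inv_cancel_right]
      exact hWle hw
  have hdec : ∀ x ∈ C, ∃ w ∈ W, ∃ k ∈ K, x = w * k ∨ x = w * k * b := by
    intro x hx
    have h2 : ((W ⊔ K).subgroupOf C).index = 2 := by
      have h3 := relIndex_mul_relIndex K (W ⊔ K) C le_sup_right (sup_le inf_le_right hKC)
      rw [relIndex_sup_right, hW4.1, h8] at h3
      show (W ⊔ K).relIndex C = 2
      omega
    by_cases hxW : x ∈ W ⊔ K
    · obtain ⟨w, hw, k, hk, e⟩ := hsupn x hxW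
      exact ⟨w, hw, k, hk, Or.inl e.symm⟩
    · have : x * b ∈ W ⊔ K := (mul_mem_iff_of_index_two h2 (a := ⟨x, hx⟩) (b := ⟨b, hAC hbA⟩)).2
        ⟨fun h => absurd h hxW, fun h => absurd h hbWK⟩
      obtain ⟨w, hw, k, hk, e⟩ := hsupn _ this
      refine ⟨w, hw, k, hk, Or.inr ?_⟩
      rw [e, mul_assoc, hbb, mul_one]
  have hgen : ∀ k ∈ K, ∃ w ∈ W, ∃ e ∈ K, k = e * e * dl b w := by
    intro k hk
    obtain ⟨x, hx, rfl⟩ := hsurj k hk
    obtain ⟨w, hw, l, hl, e⟩ := hdec x hx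
    refine ⟨w, hw, w * l * w⁻¹, hKn.conj_mem l hl w, ?_⟩
    have e' : dl b x = dl b (w * l) := by
      rcases e with rfl | rfl
      · rfl
      · rw [dl_mul b (w * l) b, show dl b b = 1 by simp [dl]]; group
    rw [e', dl_mul, hdlK l hl]
    group
  -- `W` centralizes `K` modulo squares
  have hWK : ∀ w ∈ W, ∀ k ∈ K, dl k w ∈ K2 :=
    dl_mem_squares hS hKc ((relIndex_squares_le hKc hV).trans hV4)
      (by rw [← hU4]; exact le_relIndex_squares hKc hUK hU2)
      (fun x hx y hy => hcommW x hx.1 y hy.1) (fun x hx => hNK2 (hsq x hx.1)) (fun x hx => hdK x hx.2) hgen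
  -- an element of the section outside `C`
  obtain ⟨q₀, hq₀, hq₀C⟩ : ∃ q ∈ Q, q ∉ C := by
    by_contra h; push Not at h
    have := relIndex_eq_one.2 (show Q ≤ C from h)
    omega
  obtain ⟨q, hq, k₁, hk₁, hqt⟩ : ∃ q ∈ Q, ∃ k ∈ K, q = k * t ∨ q = k * b * t := by
    have hc : q₀ * t⁻¹ ∈ C := by
      have h2 : C.index = 2 := by
        have h1 : C.index ≠ 1 := fun h => htC (index_eq_one.1 h ▸ mem_top t)
        have h0 : C.index ≠ 0 := Subgroup.index_ne_zero_of_finite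
        omega
      exact (mul_mem_iff_of_index_two h2).2
        ⟨fun h => absurd h hq₀C, fun h => absurd (inv_mem_iff.1 h) htC⟩
    obtain ⟨w, hw, k, hk, e⟩ := hdec _ hc
    refine ⟨w⁻¹ * q₀, mul_mem (inv_mem (hWle hw)) hq₀, k, hk, ?_⟩
    rcases e with e | e
    · exact Or.inl (by rw [mul_inv_eq_iff_eq_mul.1 e]; group)
    · exact Or.inr (by rw [mul_inv_eq_iff_eq_mul.1 e]; group)
  exact caseOne_final hS hU4 hU2 hUcomm hAC hbA hAc hUA hKc hKn hKC hUK hinv hdK hdlK hCdef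
    (mul_inv_eq_iff_eq_mul.2 htb') htC hcommW (fun x hx => hNK2 (hsq x hx)) hgen hWK hq hk₁ hqt

end Cfsg.Agent.H32.Harada
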