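import Cfsg.Agent.H32.Harada.Basic

/-!
The commutators of `a` with `C` fill a subgroup of index sixteen.
-/

set_option autoImplicit false
set_option maxHeartbeats 800000

namespace Cfsg.Agent.H32.Harada

open Subgroup

variable {S : Type*} [Group S] [Finite S]

omit [Finite S] in
/-- The subgroup generated by the `dl a x`, `x ∈ C`, is normal. -/
theorem closure_dl_normal {C : Subgroup S} [C.Normal] {a b : S} (hbC : b ∉ C) (hC2 : C.index = 2)
    (hba : b * a * b⁻¹ = a) : (closure {v | ∃ x ∈ C, dl a x = v}).Normal := by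
  set M := closure {v | ∃ x ∈ C, dl a x = v}
  have hmem : ∀ x ∈ C, dl a x ∈ M := fun x hx => subset_closure ⟨x, hx, rfl⟩
  have hC : ∀ g ∈ C, ∀ v ∈ M, g * v * g⁻¹ ∈ M := by
    intro g hg v hv
    have : M ≤ M.comap (MulAut.conj g).toMonoidHom := by
      refine (closure_le _).2 ?_
      rintro _ ⟨x, hx, rfl⟩
      show g * dl a x * g⁻¹ ∈ M
      rw [show g * dl a x * g⁻¹ = dl a (g * x) * (dl a g)⁻¹ by rw [dl_mul]; group]
      exact mul_mem (hmem _ (mul_mem hg hx)) (inv_mem (hmem g hg))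
    exact this hv
  refine ⟨fun v hv g => ?_⟩
  have hb : ∀ w ∈ M, b * w * b⁻¹ ∈ M := by
    intro w hw
    have : M ≤ M.comap (MulAut.conj b).toMonoidHom := by
      refine (closure_le _).2 ?_
      rintro _ ⟨x, hx, rfl⟩
      show b * dl a x * b⁻¹ ∈ M
      rw [show b * dl a x * b⁻¹ = dl (b * a * b⁻¹) (b * x * b⁻¹) by simp only [dl]; group, hba]
      exact hmem _ (Subgroup.Normal.conj_mem inferInstance x hx b)
    exact this hw
  by_cases hg : g ∈ C
  · exact hC g hg v hv
  · have h1 : g * b⁻¹ ∈ C := (mul_mem_iff_of_index_two hC2).2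
      ⟨fun h => absurd h hg, fun h => absurd (inv_mem_iff.1 h) hbC⟩
    have h2 := hC _ h1 _ (hb v hv)
    rwa [show g * b⁻¹ * (b * v * b⁻¹) * (g * b⁻¹)⁻¹ = g * v * g⁻¹ by group] at h2

/-- The index of the subgroup generated by the `dl a x` is sixteen. -/
theorem index_dl_closure (hS : IsPGroup 2 S) {C : Subgroup S} [C.Normal] {a b y : S} (haC : a ∈ C)
    (hyC : y ∈ C) (ha1 : a ≠ 1) (haa : a * a = 1) (hbb : b * b = 1)
    (hba : b * a * b = a) (hby : b * y * b = y * a) (hay : a * y = y * a) (hy2 : y * y ∈ ⁅C, C⁆)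
    (hX : Nat.card ↥(C ⊓ centralizer {a}) ≤ 16) (hmove : ¬ ∀ x ∈ C, x * a = a * x) (h8 : 8 ≤ (⁅C, C⁆ : Subgroup S).relIndex C) :
    (closure {v | ∃ x ∈ C, dl a x = v}).relIndex C = 16 := by
  classical
  have : Fact (Nat.Prime 2) := ⟨Nat.prime_two⟩
  set D := ⁅C, C⁆
  set M := closure {v | ∃ x ∈ C, dl a x = v}
  have hDn : D.Normal := Subgroup.commutator_normal C C
  have hDC : D ≤ C := commutator_le_self C
  have hmem : ∀ x ∈ C, dl a x ∈ M := fun x hx => subset_closure ⟨x, hx, rfl⟩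
  have hMD : M ≤ D := by
    refine (closure_le _).2 ?_
    rintro _ ⟨x, hx, rfl⟩
    exact commutator_mem_commutator hx haC
  have hMC := hMD.trans hDC
  have h16 : M.relIndex C ≤ 16 := by
    have h1 := card_le_card_centralizer_mul C hmem
    rw [← H64.RankFour.card_mul_relIndex hMC, mul_comm _ (Nat.card M)] at h1
    exact (Nat.le_of_mul_le_mul_left h1 Nat.card_pos).trans hX
  obtain ⟨i, hi⟩ := (hS.to_subgroup C).index (M.subgroupOf C)
  have hdvd : D.relIndex C ∣ M.relIndex C := relIndex_dvd_of_le_left C hMD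
  have hM8 : 8 ≤ M.relIndex C :=
    h8.trans (Nat.le_of_dvd (Nat.pos_of_ne_zero Subgroup.index_ne_zero_of_finite) hdvd)
  by_contra hne
  have hM : M.relIndex C = 8 := by
    have hi' : M.relIndex C = 2 ^ i := hi
    rw [hi'] at h16 hM8 hne ⊢
    have h3 : i < 4 := by
      by_contra h
      have : 2 ^ 4 ≤ 2 ^ i := Nat.pow_le_pow_right two_pos (by omega)
      omega
    interval_cases i <;> norm_num at *
  have hD8 : D.relIndex C = 8 := le_antisymm (hM ▸ Nat.le_of_dvd (by omega) hdvd) h8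
  have hMeq : M = D := by
    refine eq_of_le_of_card_ge hMD ?_
    have h1 := H64.RankFour.card_mul_relIndex hMC
    have h2 := H64.RankFour.card_mul_relIndex hDC
    rw [hM] at h1; rw [hD8] at h2
    omega
  have hbi : b⁻¹ = b := inv_eq_of_mul_eq_one_right hbb
  have hai : a⁻¹ = a := inv_eq_of_mul_eq_one_right haa
  by_cases haD : a ∈ D
  · -- then the derived subgroup is contained in its commutator with `C`
    have := hS.isNilpotent
    have hle : D ≤ ⁅D, (⊤ : Subgroup S)⁆ := by
      rw [← hMeq]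
      refine (closure_le _).2 ?_
      rintro _ ⟨x, -, rfl⟩
      rw [SetLike.mem_coe, hMeq, Subgroup.commutator_comm]
      exact commutator_mem_commutator (mem_top x) haD
    exact ha1 (mem_bot.1 (H90.SR2.eq_bot_of_le_commutator hle ▸ haD))
  have hDbot : D ≠ ⊥ := by
    intro h
    apply hmove
    intro x hx
    exact dl_eq_one.1 (mem_bot.1 (h ▸ hMD (hmem x hx)))
  obtain ⟨j, hj⟩ := IsPGroup.iff_card.1 (hS.to_subgroup D)
  have hj1 : 1 ≤ j := by
    by_contra h
    have : j = 0 := by omega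
    rw [this, pow_zero] at hj
    exact hDbot (eq_bot_of_card_eq _ hj)
  obtain ⟨N, hNn, hND, hN⟩ := PGroups.exists_normal_card_le hS D (j - 1)
    (hj ▸ Nat.pow_le_pow_right two_pos (by omega))
  have hN2 : N.relIndex D = 2 := by
    have h1 := H64.RankFour.card_mul_relIndex hND
    rw [hN, hj, show j = j - 1 + 1 by omega, pow_succ, Nat.add_sub_cancel] at h1
    exact Nat.eq_of_mul_eq_mul_left (by positivity) h1
  obtain ⟨π, hπdef⟩ : ∃ f : S →* S ⧸ N, f = QuotientGroup.mk' N := ⟨_, rfl⟩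
  have hπ : ∀ x, π x = 1 ↔ x ∈ N := fun x => by subst hπdef; exact QuotientGroup.eq_one_iff x
  have hcen : ∀ d ∈ D, ∀ g : S, Commute (π g) (π d) := by
    intro d hd g
    rw [← commutatorElement_eq_one_iff_commute, ← map_commutatorElement, hπ]
    show g * d * g⁻¹ * d⁻¹ ∈ N
    have hiff : g * d * g⁻¹ ∈ N ↔ d ∈ N := ⟨fun h => by simpa [mul_assoc] using hNn.conj_mem' _ h g,
      fun h => hNn.conj_mem d h g⟩
    exact (mul_mem_iff_of_index_two (show (N.subgroupOf D).index = 2 from hN2)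
      (a := ⟨_, hDn.conj_mem d hd g⟩) (b := ⟨_, inv_mem hd⟩)).2 (hiff.trans inv_mem_iff.symm)
  obtain ⟨w, hw, hwN⟩ : ∃ w ∈ C, dl a w ∉ N := by
    by_contra h
    push Not at h
    have hle : D ≤ N := hMeq ▸ (closure_le _).2 (by rintro _ ⟨x, hx, rfl⟩; exact h x hx)
    rw [relIndex_eq_one.2 hle] at hN2
    omega
  have hcomm : ∀ u ∈ C, ∀ v ∈ C, u * v * u⁻¹ * v⁻¹ ∈ D := fun u hu v hv => commutator_mem_commutator hu hv
  have hyD : y ∉ D := fun h => haD (by
    have h5 : b * y * b⁻¹ ∈ D := hDn.conj_mem y h b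
    rw [hbi, hby] at h5
    exact (mul_mem_cancel_left h).1 h5)
  have hyaD : y * a ∉ D := fun h => haD (by
    have h5 : b * (y * a) * b⁻¹ ∈ D := hDn.conj_mem _ h b
    rw [hbi, show b * (y * a) * b = b * y * b * ((b * b)⁻¹ * (b * a * b)) by group, hby, hba, hbb, inv_one,
      one_mul] at h5
    exact (mul_mem_cancel_left h).1 h5)
  -- elements of `⟨a, y⟩ D` commute with `a` modulo `N`
  set L := (zpowers a ⊔ zpowers y) ⊔ D
  have hLC : L ≤ C := sup_le (sup_le (zpowers_le.2 haC) (zpowers_le.2 hyC)) hDC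
  have hLa : ∀ x ∈ L, Commute (π x) (π a) := by
    have hle : L ≤ (centralizer ({π a} : Set (S ⧸ N))).comap π := by
      refine sup_le (sup_le (zpowers_le.2 ?_) (zpowers_le.2 ?_)) fun d hd => ?_
      · exact mem_centralizer_singleton_iff.2 rfl
      · exact mem_centralizer_singleton_iff.2 (((show Commute a y from hay).map π).symm).eq
      · exact mem_centralizer_singleton_iff.2 (hcen d hd a).symm.eq
    exact fun x hx => mem_centralizer_singleton_iff.1 (hle hx)
  have hwL : w ∉ L := fun h => hwN ((hπ _).1 (by rw [map_dl, dl_eq_one]; exact hLa w h))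
  have haL : a ∈ L := mem_sup_left (mem_sup_left (mem_zpowers a))
  have hyL : y ∈ L := mem_sup_left (mem_sup_right (mem_zpowers y))
  obtain ⟨σ, hσdef⟩ : ∃ f : S →* S ⧸ D, f = QuotientGroup.mk' D := ⟨_, rfl⟩
  have hσ : ∀ x, σ x = 1 ↔ x ∈ D := fun x => by subst hσdef; exact QuotientGroup.eq_one_iff x
  have hσc : ∀ u ∈ C, ∀ u' ∈ C, Commute (σ u) (σ u') := fun u hu u' hu' => by
    rw [← commutatorElement_eq_one_iff_commute, ← map_commutatorElement, hσ]
    exact hcomm u hu u' hu'
  set L₀ := zpowers a ⊔ D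
  have hL₀L : L₀ ≤ L := sup_le (zpowers_le.2 haL) le_sup_right
  have hfix : ∀ x ∈ L₀, σ (b * x * b) = σ x := by
    intro x hx
    have hle : L₀ ≤ MonoidHom.eqLocus (σ.comp (MulAut.conj b).toMonoidHom) σ := by
      refine sup_le (zpowers_le.2 ?_) fun d hd => ?_
      · show σ (b * a * b⁻¹) = σ a
        rw [hbi, hba]
      · show σ (b * d * b⁻¹) = σ d
        rw [(hσ _).2 (hDn.conj_mem d hd b), (hσ _).2 hd]
    have := hle hx
    change σ (b * x * b⁻¹) = σ x at this
    rwa [hbi] at this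
  have hyL₀ : y ∉ L₀ := by
    intro h
    have h1 := hfix y h
    rw [hby, map_mul, mul_eq_left] at h1
    exact haD ((hσ a).1 h1)
  obtain ⟨hL2, hL₀2⟩ : L.relIndex C = 2 ∧ L₀.relIndex L = 2 := by
    have h1 := relIndex_mul_relIndex D L C le_sup_right hLC
    have h4 := relIndex_mul_relIndex D L₀ L le_sup_right hL₀L
    rw [hD8, ← h4] at h1
    have h2 : L.relIndex C ≠ 1 := fun h => hwL (relIndex_eq_one.1 h hw)
    have h3 : L.relIndex C ≠ 0 := Subgroup.index_ne_zero_of_finite
    have h5 : L₀.relIndex L ≠ 1 := fun h => hyL₀ (relIndex_eq_one.1 h hyL)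
    have h6 : L₀.relIndex L ≠ 0 := Subgroup.index_ne_zero_of_finite
    have h7 : D.relIndex L₀ ≠ 1 := fun h => haD (relIndex_eq_one.1 h (mem_sup_left (mem_zpowers a)))
    have h8 : D.relIndex L₀ ≠ 0 := Subgroup.index_ne_zero_of_finite
    have : 2 ≤ L.relIndex C := by omega
    have : 2 ≤ L₀.relIndex L := by omega
    have : 2 ≤ D.relIndex L₀ := by omega
    have : 4 ≤ D.relIndex L₀ * L₀.relIndex L := Nat.mul_le_mul ‹2 ≤ D.relIndex L₀› ‹2 ≤ L₀.relIndex L›
    constructor <;> nlinarith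
  have hbL : ∀ x ∈ L, b * x * b ∈ L := by
    intro x hx
    have hle : L ≤ L.comap (MulAut.conj b).toMonoidHom := by
      refine sup_le (sup_le (zpowers_le.2 ?_) (zpowers_le.2 ?_)) fun d hd => ?_
      · show b * a * b⁻¹ ∈ L
        rw [hbi, hba]; exact haL
      · show b * y * b⁻¹ ∈ L
        rw [hbi, hby]; exact mul_mem hyL haL
      · exact mem_sup_right (hDn.conj_mem d hd b)
    have := hle hx
    rwa [mem_comap, MulEquiv.coe_toMonoidHom, MulAut.conj_apply, hbi] at this
  have hw' : b * w * b ∈ C := by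
    have := Subgroup.Normal.conj_mem (H := C) inferInstance w hw b
    rwa [hbi] at this
  obtain ⟨v, hvdef⟩ : ∃ v, v = w⁻¹ * (b * w * b) := ⟨_, rfl⟩
  have hv : v ∈ L := hvdef ▸ (mul_mem_iff_of_index_two (show (L.subgroupOf C).index = 2 from hL2)
    (a := ⟨w⁻¹, inv_mem hw⟩) (b := ⟨_, hw'⟩)).2
    ⟨fun h => absurd (inv_mem_iff.1 h) hwL, fun h => absurd (by
      have := hbL (b * w * b) h
      rwa [show b * (b * w * b) * b = (b * b) * w * (b * b) by group, hbb, one_mul, mul_one] at this) hwL⟩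
  -- modulo `D` the element `v` is a power of `a`
  have hvy : Commute (π v) (π y) := by
    by_cases hv0 : v ∈ L₀
    · have hle : L₀ ≤ (centralizer ({π y} : Set (S ⧸ N))).comap π :=
        sup_le (zpowers_le.2 (mem_centralizer_singleton_iff.2 ((show Commute a y from hay).map π).eq))
          fun d hd => mem_centralizer_singleton_iff.2 (hcen d hd y).symm.eq
      exact mem_centralizer_singleton_iff.1 (hle hv0)
    exfalso
    -- the coset of `y` would give `a ∈ D`
    have hyv : y⁻¹ * v ∈ L₀ := (mul_mem_iff_of_index_two (show (L₀.subgroupOf L).index = 2 from hL₀2)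
      (a := ⟨y⁻¹, inv_mem hyL⟩) (b := ⟨v, hv⟩)).2
      ⟨fun h => absurd (inv_mem_iff.1 h) hyL₀, fun h => absurd h hv0⟩
    have hσv : σ (b * v * b) = σ v * σ a := by
      have h1 := hfix _ hyv
      have e : b * (y⁻¹ * v) * b = (b * y * b)⁻¹ * (b * v * b) := by
        calc b * (y⁻¹ * v) * b = b * y⁻¹ * (b⁻¹ * b) * v * b := by group
          _ = _ := by simp only [mul_inv_rev, hbi]; group
      rw [e, hby, map_mul σ (y * a)⁻¹ (b * v * b), map_mul σ y⁻¹ v, map_inv, map_inv, map_mul σ y a, mul_inv_rev] at h1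
      calc σ (b * v * b) = σ y * σ a * ((σ a)⁻¹ * (σ y)⁻¹ * σ (b * v * b)) := by group
        _ = σ y * σ a * ((σ y)⁻¹ * σ v) := by rw [h1]
        _ = _ := by
          rw [(hσc y hyC a haC).eq, mul_assoc (σ a), mul_inv_cancel_left, (hσc a haC v (hLC hv)).eq]
    have hwv : b * w * b = w * v := by rw [hvdef]; group
    have h1 : w = b * w * b * (b * v * b) := by
      calc w = b * b * w * (b * b) := by rw [hbb]; group
        _ = b * (b * w * b) * b := by group
        _ = b * (w * v) * b := by rw [hwv]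
        _ = b * w * (b * b) * v * b := by rw [hbb]; group
        _ = _ := by group
    have h2 := congrArg σ h1
    rw [map_mul, hσv, hwv, map_mul, mul_assoc] at h2
    have h3 : σ v * (σ v * σ a) = 1 := mul_eq_left.1 h2.symm
    have hv2 : σ v * σ v = 1 := by
      have hσy2 : σ y * σ y = 1 := by rw [← map_mul]; exact (hσ _).2 hy2
      have hσa2 : σ a * σ a = 1 := by rw [← map_mul, haa, map_one]
      let Sq : Subgroup S :=
        { carrier := {g | σ g * σ g = 1 ∧ g ∈ C}
          one_mem' := ⟨by simp, one_mem C⟩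
          mul_mem' := by
            rintro g g' ⟨h1, h1'⟩ ⟨h2, h2'⟩
            refine ⟨?_, mul_mem h1' h2'⟩
            rw [map_mul]
            calc σ g * σ g' * (σ g * σ g') = σ g * (σ g' * σ g) * σ g' := by group
              _ = σ g * σ g * (σ g' * σ g') := by rw [(hσc g' h2' g h1').eq]; group
              _ = 1 := by rw [h1, h2, one_mul]
          inv_mem' := by
            rintro g ⟨h1, h1'⟩
            refine ⟨?_, inv_mem h1'⟩
            rw [map_inv, ← mul_inv_rev, h1, inv_one] }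
      have hle : L ≤ Sq := sup_le (sup_le (zpowers_le.2 ⟨hσa2, haC⟩) (zpowers_le.2 ⟨hσy2, hyC⟩))
        fun d hd => ⟨by rw [(hσ d).2 hd, one_mul], hDC hd⟩
      have key : ∀ x ∈ L, σ x * σ x = 1 := fun x hx => (hle hx).1
      exact key v hv
    rw [← mul_assoc, hv2, one_mul] at h3
    exact haD ((hσ a).1 h3)
  -- apply `b` to the commutator of `w` and `y`
  refine hwN ((hπ _).1 ?_)
  have hd : dl y w ∈ D := hcomm w hw y hyC
  have h1 : π (b * dl y w * b⁻¹) = π (dl y w) := by
    rw [map_mul, map_mul, map_inv, (hcen _ hd b).eq, mul_inv_cancel_right]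
  have h2 : b * dl y w * b⁻¹ = dl (y * a) (w * v) := by
    rw [← hby, hvdef]; simp only [dl, hbi]
    calc b * (w * y * w⁻¹ * y⁻¹) * b = b * w * (b⁻¹ * b) * y * (b⁻¹ * b) * w⁻¹ * (b⁻¹ * b) * y⁻¹ * b := by group
      _ = _ := by rw [hbi]; simp only [mul_inv_rev, hbi]; group
  rw [h2, map_dl, map_mul] at h1
  have hav : Commute (π v) (π a) := hLa v hv
  have h3 : dl (π y * π a) (π w * π v) = dl (π y) (π w) * (π y * dl (π a) (π w) * (π y)⁻¹) := by
    calc dl (π y * π a) (π w * π v) = π w * (π v * (π y * π a) * (π v)⁻¹) * (π w)⁻¹ * (π y * π a)⁻¹ := by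
          simp only [dl]; group
      _ = π w * (π y * π a) * (π w)⁻¹ * (π y * π a)⁻¹ := by rw [(hvy.mul_right hav).eq, mul_inv_cancel_right]
      _ = _ := by simp only [dl]; group
  rw [map_mul π w v, h3, ← map_dl, ← map_dl, mul_eq_left, conj_eq_one_iff] at h1
  exact h1

end Cfsg.Agent.H32.Harada
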