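import Cfsg.Agent.H32.Harada.Basic

/-!
No elementary abelian subgroup covers eight cosets of `K` while avoiding the coset of `a`.
-/

set_option autoImplicit false

namespace Cfsg.Agent.H32.Harada

open Subgroup

variable {P : Type*} [Group P] [Finite P]

/-- If `E` contains an element of the coset of `y` and an element outside `C`, then `dl a` takes at most
two values. -/
theorem fixed_coset (hP : IsPGroup 2 P) {C K E : Subgroup P} [C.Normal] [K.Normal] (hKC : K ≤ C)
    (hC2 : C.index ≤ 2) (hK4 : Nat.card K ≤ 4) {a y b : P} (haC : a ∈ C) (hyC : y ∈ C) (hbC : b ∉ C)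
    (haa : a * a = 1) (hbb : b * b = 1) (hay : a * y = y * a) (hba : b * a * b = a) (hby : b * y * b = y * a)
    (haK : ∀ k ∈ K, a * k = k * a) (hdK : ∀ x ∈ C, dl a x ∈ K)
    (hT : ∀ x ∈ C, x * a = a * x → ∃ k ∈ K, x = k ∨ x = k * a ∨ x = k * y ∨ x = k * a * y)
    (hC16 : K.relIndex C = 16) (hsurjC : ∀ k ∈ K, ∃ x ∈ C, dl a x = k) (haK' : a ∉ K)
    (hEc : ∀ e ∈ E, ∀ f ∈ E, e * f = f * e) (havoid : ∀ k ∈ K, k * a ∉ E) (hE8 : K.relIndex E = 8)
    {k₀ : P} (hk₀ : k₀ ∈ K) (hy₀ : k₀ * y ∈ E) {q : P} (hq : q ∈ E) (hqC : q ∉ C) : False := by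
  classical
  have : Fact (Nat.Prime 2) := ⟨Nat.prime_two⟩
  have hbi : b⁻¹ = b := inv_eq_of_mul_eq_one_right hbb
  have hai : a⁻¹ = a := inv_eq_of_mul_eq_one_right haa
  have hKn : K.Normal := inferInstance
  have hC2' : C.index = 2 := by
    have h1 : C.index ≠ 1 := fun h => hbC (index_eq_one.1 h ▸ mem_top b)
    have h0 : C.index ≠ 0 := Subgroup.index_ne_zero_of_finite
    omega
  obtain ⟨Z₀, hZn, hZK, hZc, hZ2, hidx⟩ :
      ∃ Z₀ : Subgroup P, Z₀.Normal ∧ Z₀ ≤ K ∧ Z₀ ≤ center P ∧ Nat.card Z₀ ≤ 2 ∧ Z₀.relIndex K ≤ 2 := by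
    by_cases hbot : K = ⊥
    · exact ⟨⊥, inferInstance, bot_le, bot_le, by simp, by rw [hbot]; simp⟩
    obtain ⟨z, hzK, hzc, hzo⟩ := PGroups.exists_mem_center_orderOf_eq hP K hbot
    refine ⟨zpowers z, PGroups.normal_of_le_center (zpowers_le.2 hzc), zpowers_le.2 hzK, zpowers_le.2 hzc,
      by rw [Nat.card_zpowers, hzo], ?_⟩
    have h1 := H64.RankFour.card_mul_relIndex (zpowers_le.2 hzK)
    rw [Nat.card_zpowers, hzo] at h1
    omega
  have hKmod : ∀ g : P, ∀ l ∈ K, g * l * g⁻¹ * l⁻¹ ∈ Z₀ := by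
    intro g l hl
    by_contra hne
    have hg : g * l * g⁻¹ ∈ K := hKn.conj_mem l hl g
    have h2 : (Z₀.subgroupOf K).index = 2 := by
      have h1 : Z₀.relIndex K ≠ 1 := fun h => hne (relIndex_eq_one.1 h (mul_mem hg (inv_mem hl)))
      have h0 : Z₀.relIndex K ≠ 0 := Subgroup.index_ne_zero_of_finite
      show Z₀.relIndex K = 2
      omega
    have hiff : g * l * g⁻¹ ∈ Z₀ ↔ l ∈ Z₀ := ⟨fun h => by simpa [mul_assoc] using hZn.conj_mem' _ h g,
      fun h => hZn.conj_mem l h g⟩
    exact hne ((mul_mem_iff_of_index_two h2 (a := ⟨_, hg⟩) (b := ⟨_, inv_mem hl⟩)).2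
      (hiff.trans inv_mem_iff.symm))
  obtain ⟨π, hπdef⟩ : ∃ f : P →* P ⧸ Z₀, f = QuotientGroup.mk' Z₀ := ⟨_, rfl⟩
  have hπ : ∀ x, π x = 1 ↔ x ∈ Z₀ := fun x => by subst hπdef; exact QuotientGroup.eq_one_iff x
  have hcen : ∀ l ∈ K, ∀ g : P, Commute (π g) (π l) := by
    intro l hl g
    rw [← commutatorElement_eq_one_iff_commute, ← map_commutatorElement, hπ]
    exact hKmod g l hl
  -- the centralizer of `y` modulo `Z₀`
  set L := C ⊓ (centralizer ({π y} : Set (P ⧸ Z₀))).comap π
  have hL : ∀ x, x ∈ L ↔ x ∈ C ∧ Commute (π x) (π y) := fun x =>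
    ⟨fun h => ⟨h.1, mem_centralizer_singleton_iff.1 h.2⟩, fun h => ⟨h.1, mem_centralizer_singleton_iff.2 h.2⟩⟩
  set W := E ⊓ C
  have hWL : W ≤ L := by
    intro w hw
    refine (hL w).2 ⟨hw.2, ?_⟩
    have h1 : Commute (π w) (π (k₀ * y)) := (show Commute w (k₀ * y) from hEc w hw.1 _ hy₀).map π
    have h2 := ((hcen k₀ hk₀ w).inv_right).mul_right h1
    rwa [map_mul, ← mul_assoc, inv_mul_cancel, one_mul] at h2
  have hKL : K ≤ L := fun l hl => (hL l).2 ⟨hKC hl, (hcen l hl y).symm⟩
  have haL : a ∈ L := (hL a).2 ⟨haC, (show Commute a y from hay).map π⟩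
  -- the element `b q`
  obtain ⟨c, hc⟩ : ∃ c, c = b * q := ⟨_, rfl⟩
  have hcC : c ∈ C := hc ▸ (mul_mem_iff_of_index_two hC2').2
    ⟨fun h => absurd h hbC, fun h => absurd h hqC⟩
  have hqy : π q * π y * (π q)⁻¹ = π y := by
    have h1 : Commute (π q) (π (k₀ * y)) := (show Commute q (k₀ * y) from hEc q hq _ hy₀).map π
    have h2 := ((hcen k₀ hk₀ q).inv_right).mul_right h1
    rw [map_mul, ← mul_assoc, inv_mul_cancel, one_mul] at h2
    exact mul_inv_eq_iff_eq_mul.2 h2.eq
  have hcy : π c * π y * (π c)⁻¹ = π y * π a := by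
    rw [← map_mul π y a, ← hby, hc, map_mul]
    calc π b * π q * π y * (π b * π q)⁻¹ = π b * (π q * π y * (π q)⁻¹) * (π b)⁻¹ := by group
      _ = _ := by rw [hqy, ← map_inv, hbi, map_mul, map_mul]
  have hcL : c ∉ L := by
    intro h
    rw [mul_inv_eq_iff_eq_mul.2 ((hL c).1 h).2.eq] at hcy
    exact haK' (hZK ((hπ a).1 (mul_eq_left.1 hcy.symm)))
  have hL2 : L.relIndex C = 2 := by
    have h1 : L.relIndex C ≠ 1 := fun h => hcL (relIndex_eq_one.1 h hcC)
    have h0 : L.relIndex C ≠ 0 := Subgroup.index_ne_zero_of_finite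
    have h2 := relIndex_mul_relIndex K L C hKL inf_le_left
    rw [hC16] at h2
    have hWle : K.relIndex W * C.relIndex E = 8 := by
      rw [← hE8, ← inf_relIndex_left E K, ← inf_relIndex_left E C,
        ← relIndex_mul_relIndex (E ⊓ K) W E (inf_le_inf_left E hKC) inf_le_left, ← inf_relIndex_right K W]
      congr 2
      show K ⊓ (E ⊓ C) = E ⊓ K
      rw [← inf_assoc, inf_comm K E, inf_assoc, inf_eq_left.2 hKC]
    have hCQ : C.relIndex E ≤ 2 :=
      (relIndex_le_of_le_right (le_top : E ≤ ⊤) Subgroup.index_ne_zero_of_finite).trans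
        (by rwa [relIndex_top_right])
    have haWK : a ∉ W ⊔ K := by
      intro h
      have h' : a ∈ ((W ⊔ K : Subgroup P) : Set P) := h
      rw [Subgroup.mul_normal] at h'
      obtain ⟨w, hw, l, hl, hwl⟩ := h'
      refine havoid (a * l⁻¹ * a⁻¹) (hKn.conj_mem _ (inv_mem hl) a) ?_
      rw [inv_mul_cancel_right, ← hwl, mul_inv_cancel_right]
      exact hw.1
    have h3 := relIndex_mul_relIndex K (W ⊔ K) L le_sup_right (sup_le hWL hKL)
    rw [relIndex_sup_right] at h3
    have h4 : (W ⊔ K).relIndex L ≠ 1 := fun h => haWK (relIndex_eq_one.1 h haL)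
    have h5 : (W ⊔ K).relIndex L ≠ 0 := Subgroup.index_ne_zero_of_finite
    have h6 : 4 ≤ K.relIndex W := by nlinarith
    have : 8 ≤ K.relIndex L := by
      rw [← h3]
      calc 8 = 4 * 2 := rfl
        _ ≤ _ := Nat.mul_le_mul h6 (by omega)
    nlinarith [show 2 ≤ L.relIndex C by omega]
  have hLn : ∀ w ∈ L, c * w * c⁻¹ ∈ L := by
    intro w hw
    have hn : (L.subgroupOf C).Normal := normal_of_index_eq_two hL2
    exact hn.conj_mem ⟨w, hw.1⟩ hw ⟨c, hcC⟩
  -- `dl a` vanishes modulo `Z₀`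
  have hda : ∀ x, dl a x ∈ Z₀ ↔ Commute (π x) (π a) := fun x => by
    rw [← hπ, map_dl, dl_eq_one]; rfl
  have hW1 : ∀ w ∈ W, dl a w ∈ Z₀ := by
    intro w hw
    have h1 : c * w * c⁻¹ = b * w * b := by
      calc c * w * c⁻¹ = b * (q * w * q⁻¹) * b⁻¹ := by rw [hc]; group
        _ = _ := by rw [mul_inv_eq_iff_eq_mul.2 (hEc q hq w hw.1), hbi]
    have h2 := ((hL _).1 (h1 ▸ hLn w (hWL hw))).2
    have h3 : Commute (π w) (π (b * y * b)) := by
      show π w * π (b * y * b) = π (b * y * b) * π w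
      calc π w * π (b * y * b) = π b * (π (b * w * b) * π y) * π b := by
            simp only [← map_mul]
            congr 1
            calc w * (b * y * b) = b * b * w * (b * y * b) := by rw [hbb, one_mul]
              _ = _ := by group
        _ = π b * (π y * π (b * w * b)) * π b := by rw [h2.eq]
        _ = _ := by
            simp only [← map_mul]
            congr 1
            calc b * (y * (b * w * b)) * b = b * y * b * w * (b * b) := by group
              _ = _ := by rw [hbb, mul_one]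
    rw [hby, map_mul] at h3
    have h4 := (((hL w).1 (hWL hw)).2.inv_right).mul_right h3
    rw [← mul_assoc, inv_mul_cancel, one_mul] at h4
    exact (hda w).2 h4
  have hc1 : dl a c ∈ Z₀ := by
    have h1 : c * c ∈ L := by
      have h := mul_self_mem_of_index_two (show (L.subgroupOf C).index = 2 from hL2) (⟨c, hcC⟩ : C)
      exact mem_subgroupOf.1 h
    have h2 : π (c * c) * π y * (π (c * c))⁻¹ = π y := mul_inv_eq_iff_eq_mul.2 ((hL _).1 h1).2.eq
    rw [map_mul, show π c * π c * π y * (π c * π c)⁻¹ = π c * (π c * π y * (π c)⁻¹) * (π c)⁻¹ by group, hcy,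
      show π c * (π y * π a) * (π c)⁻¹ = π c * π y * (π c)⁻¹ * (π c * π a * (π c)⁻¹) by group, hcy,
      mul_assoc, mul_eq_left] at h2
    rw [← hπ, map_dl, dl, ← map_inv π a, hai]
    have h3 : π a * π a = 1 := by rw [← map_mul, haa, map_one]
    calc π c * π a * (π c)⁻¹ * π a = π a * (π a * (π c * π a * (π c)⁻¹)) * π a := by
          rw [← mul_assoc (π a) (π a), h3, one_mul]
      _ = 1 := by rw [h2, mul_one, h3]
  -- hence on all of `C`
  let D : Subgroup P := C ⊓ (centralizer ({π a} : Set (P ⧸ Z₀))).comap π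
  have hD : ∀ x ∈ C, dl a x ∈ Z₀ → x ∈ D := fun x hx h =>
    ⟨hx, mem_centralizer_singleton_iff.2 ((hda x).1 h).eq⟩
  have hLD : L ≤ D := by
    intro x hx
    by_cases hx' : x ∈ D
    · exact hx'
    exfalso
    obtain ⟨l, hl⟩ : ∃ l, l = dl a x := ⟨_, rfl⟩
    have hdl : W ⊔ K ≤ D := by
      refine sup_le (fun w hw => hD w hw.2 (hW1 w hw)) fun l hl => ?_
      exact ⟨hKC hl, mem_centralizer_singleton_iff.2 (hcen l hl a).symm⟩
    have haD : a ∈ D := ⟨haC, mem_centralizer_singleton_iff.2 rfl⟩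
    -- `D` meets `L` in everything, as it contains eight cosets
    have h1 : (W ⊔ K ⊔ zpowers a) ≤ D ⊓ L := sup_le (le_inf hdl (sup_le hWL hKL)) (zpowers_le.2 ⟨haD, haL⟩)
    have h2 : K.relIndex L = 8 := by
      have h := relIndex_mul_relIndex K L C hKL inf_le_left
      rw [hC16, hL2] at h
      omega
    have hWle : K.relIndex W * C.relIndex E = 8 := by
      rw [← hE8, ← inf_relIndex_left E K, ← inf_relIndex_left E C,
        ← relIndex_mul_relIndex (E ⊓ K) W E (inf_le_inf_left E hKC) inf_le_left, ← inf_relIndex_right K W]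
      congr 2
      show K ⊓ (E ⊓ C) = E ⊓ K
      rw [← inf_assoc, inf_comm K E, inf_assoc, inf_eq_left.2 hKC]
    have hCQ : C.relIndex E ≤ 2 :=
      (relIndex_le_of_le_right (le_top : E ≤ ⊤) Subgroup.index_ne_zero_of_finite).trans
        (by rwa [relIndex_top_right])
    have h6 : 4 ≤ K.relIndex W := by nlinarith
    have haWK : a ∉ W ⊔ K := by
      intro h
      have h' : a ∈ ((W ⊔ K : Subgroup P) : Set P) := h
      rw [Subgroup.mul_normal] at h'
      obtain ⟨w, hw, l, hl, hwl⟩ := h'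
      refine havoid (a * l⁻¹ * a⁻¹) (hKn.conj_mem _ (inv_mem hl) a) ?_
      rw [inv_mul_cancel_right, ← hwl, mul_inv_cancel_right]
      exact hw.1
    have h3 := relIndex_mul_relIndex K (W ⊔ K) (D ⊓ L) le_sup_right (le_sup_left.trans h1)
    rw [relIndex_sup_right] at h3
    have h4 : (W ⊔ K).relIndex (D ⊓ L) ≠ 1 := fun h =>
      haWK (relIndex_eq_one.1 h ⟨haD, haL⟩)
    have h5 : (W ⊔ K).relIndex (D ⊓ L) ≠ 0 := Subgroup.index_ne_zero_of_finite
    have h7 := relIndex_mul_relIndex K (D ⊓ L) L ((le_sup_right.trans le_sup_left).trans h1) inf_le_right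
    have h8 : (D ⊓ L).relIndex L = 1 := by
      have : 8 ≤ K.relIndex (D ⊓ L) := by
        rw [← h3]
        calc 8 = 4 * 2 := rfl
          _ ≤ _ := Nat.mul_le_mul h6 (by omega)
      have h0 : (D ⊓ L).relIndex L ≠ 0 := Subgroup.index_ne_zero_of_finite
      nlinarith
    exact hx' (relIndex_eq_one.1 h8 hx).1
  have hCD : C ≤ D := by
    intro x hx
    by_cases hxL : x ∈ L
    · exact hLD hxL
    · have h1 : c⁻¹ * x ∈ L := (mul_mem_iff_of_index_two (show (L.subgroupOf C).index = 2 from hL2)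
        (a := ⟨c⁻¹, inv_mem hcC⟩) (b := ⟨x, hx⟩)).2
        ⟨fun h => absurd (inv_mem_iff.1 h) hcL, fun h => absurd h hxL⟩
      have := mul_mem (hD c hcC hc1) (hLD h1)
      rwa [mul_inv_cancel_left] at this
  have hle : K ≤ Z₀ := by
    intro l hl
    obtain ⟨x, hx, rfl⟩ := hsurjC l hl
    exact (hda x).2 (mem_centralizer_singleton_iff.1 (hCD hx).2)
  -- so `K` has at most two elements, and `dl a` is injective on too many cosets
  have h1 := card_le_card_centralizer_mul C hdK
  have hXK : K.relIndex (C ⊓ centralizer ({a} : Set P)) ≤ 4 := by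
    let m : ↥(C ⊓ centralizer ({a} : Set P)) ⧸ K.subgroupOf (C ⊓ centralizer ({a} : Set P)) → Bool × Bool :=
      fun r => (decide (∃ l ∈ K, (r.out : P) = l ∨ (r.out : P) = l * y),
        decide (∃ l ∈ K, (r.out : P) = l ∨ (r.out : P) = l * a))
    have hm : Function.Injective m := by
      intro r r' h
      rw [← QuotientGroup.out_eq' r, ← QuotientGroup.out_eq' r']
      refine QuotientGroup.eq.2 (mem_subgroupOf.2 ?_)
      simp only [Subgroup.coe_mul, InvMemClass.coe_inv]
      obtain ⟨h1, h2⟩ := Prod.mk.inj h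
      have e1 := decide_eq_decide.1 h1
      have e2 := decide_eq_decide.1 h2
      obtain ⟨l, hl, hr⟩ := hT _ r.out.2.1 (mem_centralizer_singleton_iff.1 r.out.2.2)
      obtain ⟨l', hl', hr'⟩ := hT _ r'.out.2.1 (mem_centralizer_singleton_iff.1 r'.out.2.2)
      have hl2 : ∀ v : P, v⁻¹ * (l⁻¹ * l') * v ∈ K := fun v => hKn.conj_mem' _ (mul_mem (inv_mem hl) hl') v
      have hyK : y ∉ K := fun h => haK' (by
        have h' : b * y * b ∈ K := by
          have := hKn.conj_mem y h b
          rwa [hbi] at this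
        rw [hby] at h'
        exact (mul_mem_cancel_left h).1 h')
      have hayK : a * y ∉ K := fun h => haK' (by
        have h' : b * (a * y) * b ∈ K := by
          have := hKn.conj_mem _ h b
          rwa [hbi] at this
        rw [show b * (a * y) * b = (b * a * b) * ((b * b)⁻¹ * (b * y * b)) by group, hba, hby, hbb, inv_one,
          one_mul, ← mul_assoc] at h'
        exact (mul_mem_cancel_left h).1 h')
      have hne : ∀ {u v : P}, u ∈ K → v ∈ K → ∀ {g g' : P}, u * g = v * g' → g' * g⁻¹ ∈ K := by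
        intro u v hu hv g g' h
        rw [show g' * g⁻¹ = v⁻¹ * (v * g') * g⁻¹ by group, ← h, show v⁻¹ * (u * g) * g⁻¹ = v⁻¹ * u by group]
        exact mul_mem (inv_mem hv) hu
      have hk1 : ∀ {u : P}, u ∈ K → (∃ l ∈ K, u = l ∨ u = l * y) ∧ (∃ l ∈ K, u = l ∨ u = l * a) :=
        fun hu => ⟨⟨_, hu, Or.inl rfl⟩, ⟨_, hu, Or.inl rfl⟩⟩
      have hn1 : ∀ {u : P}, u ∈ K → ∀ {g : P}, g ∉ K → g * y⁻¹ ∉ K → ¬ ∃ l ∈ K, u * g = l ∨ u * g = l * y := by
        intro u hu g hg hgy
        rintro ⟨v, hv, h | h⟩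
        · exact hg ((mul_mem_cancel_left hu).1 (h ▸ hv))
        · have := inv_mem (hne hu hv h)
          exact hgy (by rwa [mul_inv_rev, inv_inv] at this)
      have hn2 : ∀ {u : P}, u ∈ K → ∀ {g : P}, g ∉ K → g * a⁻¹ ∉ K → ¬ ∃ l ∈ K, u * g = l ∨ u * g = l * a := by
        intro u hu g hg hgy
        rintro ⟨v, hv, h | h⟩
        · exact hg ((mul_mem_cancel_left hu).1 (h ▸ hv))
        · have := inv_mem (hne hu hv h)
          exact hgy (by rwa [mul_inv_rev, inv_inv] at this)
      have hay1 : a * y * y⁻¹ ∉ K := by rwa [mul_inv_cancel_right]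
      have hay2 : a * y * a⁻¹ ∉ K := by rwa [hay, mul_inv_cancel_right]
      have hA1 : a * y⁻¹ ∉ K := fun h => hayK (by
        have := inv_mem (hKn.conj_mem' _ h y)
        rwa [show (y⁻¹ * (a * y⁻¹) * y)⁻¹ = a⁻¹ * y by group, hai] at this)
      have hY2 : y * a⁻¹ ∉ K := by rwa [hai, ← hay]
      rcases hr with hr | hr | hr | hr <;> rcases hr' with hr' | hr' | hr' | hr' <;> rw [hr, hr'] at e1 e2 ⊢
      · exact mul_mem (inv_mem hl) hl'
      · exact absurd (e1.1 (hk1 hl).1) (hn1 hl' haK' hA1)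
      · exact absurd (e2.1 (hk1 hl).2) (hn2 hl' hyK hY2)
      · exact absurd (e1.1 (hk1 hl).1) (by rw [mul_assoc]; exact hn1 hl' hayK hay1)
      · exact absurd (e1.2 (hk1 hl').1) (hn1 hl haK' hA1)
      · rw [show (l * a)⁻¹ * (l' * a) = a⁻¹ * (l⁻¹ * l') * a by group]; exact hl2 a
      · exact absurd (e2.1 ⟨l, hl, Or.inr rfl⟩) (hn2 hl' hyK hY2)
      · exact absurd (e2.1 ⟨l, hl, Or.inr rfl⟩) (by rw [mul_assoc]; exact hn2 hl' hayK hay2)
      · exact absurd (e2.2 (hk1 hl').2) (hn2 hl hyK hY2)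
      · exact absurd (e2.2 ⟨l', hl', Or.inr rfl⟩) (hn2 hl hyK hY2)
      · rw [show (l * y)⁻¹ * (l' * y) = y⁻¹ * (l⁻¹ * l') * y by group]; exact hl2 y
      · exact absurd (e1.1 ⟨l, hl, Or.inr rfl⟩) (by rw [mul_assoc]; exact hn1 hl' hayK hay1)
      · exact absurd (e1.2 (hk1 hl').1) (by rw [mul_assoc]; exact hn1 hl hayK hay1)
      · exact absurd (e2.2 ⟨l', hl', Or.inr rfl⟩) (by rw [mul_assoc]; exact hn2 hl hayK hay2)
      · exact absurd (e1.2 ⟨l', hl', Or.inr rfl⟩) (by rw [mul_assoc]; exact hn1 hl hayK hay1)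
      · rw [show (l * a * y)⁻¹ * (l' * a * y) = (a * y)⁻¹ * (l⁻¹ * l') * (a * y) by group]; exact hl2 _
    refine (Nat.card_le_card_of_injective m hm).trans ?_
    simp [Nat.card_eq_fintype_card]
  have hK2' : Nat.card K ≤ 2 := (card_le_of_le hle).trans hZ2
  have hKX : K ≤ C ⊓ centralizer ({a} : Set P) :=
    le_inf hKC fun l hl => mem_centralizer_singleton_iff.2 (haK l hl).symm
  rw [← H64.RankFour.card_mul_relIndex hKC, ← H64.RankFour.card_mul_relIndex hKX, hC16, mul_assoc] at h1
  have h9 := Nat.le_of_mul_le_mul_left h1 Nat.card_pos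
  nlinarith

theorem no_elementary (hP : IsPGroup 2 P) {C K E : Subgroup P} [C.Normal] [K.Normal] (hKC : K ≤ C)
    (hC2 : C.index ≤ 2) (hK4 : Nat.card K ≤ 4) (hKc : ∀ k ∈ K, ∀ l ∈ K, k * l = l * k)
    (hK2 : ∀ k ∈ K, k * k = 1) {a y b : P} (haC : a ∈ C) (hyC : y ∈ C) (hbC : b ∉ C)
    (haa : a * a = 1) (hbb : b * b = 1) (hay : a * y = y * a) (hba : b * a * b = a) (hby : b * y * b = y * a)
    (haK : ∀ k ∈ K, a * k = k * a) (hdK : ∀ x ∈ C, dl a x ∈ K)
    (hT : ∀ x ∈ C, x * a = a * x → ∃ k ∈ K, x = k ∨ x = k * a ∨ x = k * y ∨ x = k * a * y)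
    (hC16 : K.relIndex C = 16) (hsurjC : ∀ k ∈ K, ∃ x ∈ C, dl a x = k) (haK' : a ∉ K)
    (hEc : ∀ e ∈ E, ∀ f ∈ E, e * f = f * e) (hE2 : ∀ e ∈ E, e * e = 1) (havoid : ∀ k ∈ K, k * a ∉ E)
    (hE8 : K.relIndex E = 8) : False := by
  classical
  have : Fact (Nat.Prime 2) := ⟨Nat.prime_two⟩
  have hbi : b⁻¹ = b := inv_eq_of_mul_eq_one_right hbb
  have hai : a⁻¹ = a := inv_eq_of_mul_eq_one_right haa
  have hKn : K.Normal := inferInstance
  have hCn : C.Normal := inferInstance
  have hCQ : C.relIndex E ≤ 2 :=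
    (relIndex_le_of_le_right (le_top : E ≤ ⊤) Subgroup.index_ne_zero_of_finite).trans
      (by rwa [relIndex_top_right])
  have hbin : ∀ x, x ∉ C → b * x ∈ C := fun x hx => by
    have h1 : C.index ≠ 1 := fun h => hbC (index_eq_one.1 h ▸ mem_top b)
    have h0 : C.index ≠ 0 := Subgroup.index_ne_zero_of_finite
    exact (mul_mem_iff_of_index_two (show C.index = 2 by omega)).2
      ⟨fun h => absurd h hbC, fun h => absurd h hx⟩
  set W := E ⊓ C
  set T := W ⊓ centralizer ({a} : Set P)
  -- few elements of `W` centralize `a`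
  have hTcases : ∀ x ∈ T, x ∈ K ∨ (E ≤ C ∧ ∃ k ∈ K, x = k * y ∨ x = k * a * y) := by
    intro x hx
    obtain ⟨k, hk, h | h | h⟩ := hT x hx.1.2 (mem_centralizer_singleton_iff.1 hx.2)
    · exact Or.inl (h ▸ hk)
    · exact absurd (h ▸ hx.1.1) (havoid k hk)
    · by_cases hEC : E ≤ C
      · exact Or.inr ⟨hEC, k, hk, h⟩
      exfalso
      obtain ⟨q, hq, hqC⟩ := SetLike.not_le_iff_exists.1 hEC
      rcases h with h | h
      · exact fixed_coset hP hKC hC2 hK4 haC hyC hbC haa hbb hay hba hby haK hdK hT hC16 hsurjC haK' hEc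
          havoid hE8 hk (h ▸ hx.1.1) hq hqC
      · refine fixed_coset hP hKC hC2 hK4 haC (mul_mem haC hyC) hbC haa hbb (by rw [← mul_assoc, haa, one_mul,
          mul_assoc, ← hay, ← mul_assoc, haa, one_mul]) hba ?_ haK hdK ?_ hC16 hsurjC haK' hEc havoid hE8 hk
          (show k * (a * y) ∈ E by rw [← mul_assoc]; exact h ▸ hx.1.1) hq hqC
        · rw [show b * (a * y) * b = (b * a * b) * ((b * b)⁻¹ * (b * y * b)) by group, hba, hby, hbb, inv_one,
            one_mul, mul_assoc]
        · intro v hv hva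
          obtain ⟨l, hl, h'⟩ := hT v hv hva
          refine ⟨l, hl, ?_⟩
          rcases h' with h' | h' | h' | h'
          · exact Or.inl h'
          · exact Or.inr (Or.inl h')
          · exact Or.inr (Or.inr (Or.inr (by rw [h', mul_assoc l a, ← mul_assoc a a, haa, one_mul])))
          · exact Or.inr (Or.inr (Or.inl (by rw [h', mul_assoc])))
  have hT2 : K.relIndex T ≤ if E ≤ C then 2 else 1 := by
    by_cases hEC : E ≤ C
    · rw [if_pos hEC]
      let m : ↥T ⧸ K.subgroupOf T → Bool := fun q => decide ((q.out : P) ∈ K)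
      have hm : Function.Injective m := by
        intro q q' h
        have h' : (q.out : P) ∈ K ↔ (q'.out : P) ∈ K := decide_eq_decide.1 h
        rw [← QuotientGroup.out_eq' q, ← QuotientGroup.out_eq' q']
        refine QuotientGroup.eq.2 (mem_subgroupOf.2 ?_)
        simp only [Subgroup.coe_mul, InvMemClass.coe_inv]
        rcases hTcases _ q.out.2 with h1 | ⟨-, k, hk, h1⟩
        · exact mul_mem (inv_mem h1) (h'.1 h1)
        rcases hTcases _ q'.out.2 with h2 | ⟨-, l, hl, h2⟩
        · exact mul_mem (inv_mem (h'.2 h2)) h2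
        have hmem : (q.out : P)⁻¹ * q'.out ∈ E := mul_mem (inv_mem q.out.2.1.1) q'.out.2.1.1
        have hmem' : (q'.out : P)⁻¹ * q.out ∈ E := mul_mem (inv_mem q'.out.2.1.1) q.out.2.1.1
        rcases h1 with h1 | h1 <;> rcases h2 with h2 | h2
        · rw [h1, h2, show (k * y)⁻¹ * (l * y) = y⁻¹ * (k⁻¹ * l) * y by group]
          exact hKn.conj_mem' _ (mul_mem (inv_mem hk) hl) y
        · refine absurd hmem ?_
          rw [h1, h2, show (k * y)⁻¹ * (l * a * y) = y⁻¹ * (k⁻¹ * l) * (a * y) by group, hay, ← mul_assoc]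
          exact havoid _ (hKn.conj_mem' _ (mul_mem (inv_mem hk) hl) y)
        · refine absurd hmem' ?_
          rw [h1, h2, show (l * y)⁻¹ * (k * a * y) = y⁻¹ * (l⁻¹ * k) * (a * y) by group, hay, ← mul_assoc]
          exact havoid _ (hKn.conj_mem' _ (mul_mem (inv_mem hl) hk) y)
        · rw [h1, h2, show (k * a * y)⁻¹ * (l * a * y) = (a * y)⁻¹ * (k⁻¹ * l) * (a * y) by group]
          exact hKn.conj_mem' _ (mul_mem (inv_mem hk) hl) _
      refine (Nat.card_le_card_of_injective m hm).trans ?_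
      simp [Nat.card_eq_fintype_card]
    · rw [if_neg hEC]
      exact (relIndex_eq_one.2 fun x hx => (hTcases x hx).resolve_right fun h => hEC h.1).le
  have hWK : K.relIndex W * C.relIndex E = 8 := by
    rw [← hE8, ← inf_relIndex_left E K, ← inf_relIndex_left E C,
      ← relIndex_mul_relIndex (E ⊓ K) W E (inf_le_inf_left E hKC) inf_le_left, ← inf_relIndex_right K W]
    congr 2
    show K ⊓ (E ⊓ C) = E ⊓ K
    rw [← inf_assoc, inf_comm K E, inf_assoc, inf_eq_left.2 hKC]
  have hWT : 4 ≤ T.relIndex W := by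
    have h1 : K.relIndex W = K.relIndex T * T.relIndex W ∨ K.relIndex W ≤ K.relIndex T * T.relIndex W := by
      right
      rw [← inf_relIndex_right K T, ← inf_relIndex_right K W,
        relIndex_mul_relIndex (K ⊓ T) T W inf_le_right inf_le_left]
      exact Nat.le_of_dvd (Nat.pos_of_ne_zero Subgroup.index_ne_zero_of_finite)
        (relIndex_dvd_of_le_left W (inf_le_inf_left K inf_le_left))
    have h1 : K.relIndex W ≤ K.relIndex T * T.relIndex W := h1.elim le_of_eq id
    by_cases hEC : E ≤ C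
    · rw [if_pos hEC] at hT2
      rw [relIndex_eq_one.2 hEC, mul_one] at hWK
      nlinarith
    · rw [if_neg hEC] at hT2
      nlinarith
  have hdlW : ∀ x ∈ W, dl a x ∈ K := fun x hx => hdK x hx.2
  have hK4' : Nat.card K = 4 ∧ Nat.card T * Nat.card K ≤ Nat.card W := by
    have h1 := card_le_card_centralizer_mul W hdlW
    have h2 : Nat.card T * T.relIndex W = Nat.card W := H64.RankFour.card_mul_relIndex inf_le_left
    rw [show W ⊓ centralizer ({a} : Set P) = T from rfl] at h1
    rw [← h2] at h1 ⊢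
    have h3 := Nat.le_of_mul_le_mul_left h1 Nat.card_pos
    exact ⟨by omega, Nat.mul_le_mul le_rfl (by omega)⟩
  have hsurj : ∀ k ∈ K, ∃ w ∈ W, dl a w = k := fun k hk => dl_surj W hdlW hK4'.2 hk
  have hWk : ∀ w ∈ W, ∀ k ∈ K, w * k = k * w :=
    central_of_delta hP hK4'.1 hKc hK2 (fun e he f hf => hEc e he.1 f hf.1) (fun e he => hE2 e he.1) hdlW hsurj
  -- `dl a` cannot vanish on `W`
  have hend : (∀ w ∈ W, dl a w = 1) → False := by
    intro h
    have hle : K ≤ ⊥ := fun k hk => by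
      obtain ⟨w, hw, rfl⟩ := hsurj k hk
      exact mem_bot.2 (h w hw)
    have := card_le_of_le hle
    rw [card_bot, hK4'.1] at this
    omega
  have hdec : ∀ c ∈ C, ∃ w ∈ W, ∃ k ∈ K,
      c = w * k ∨ c = w * (k * a) ∨ c = w * (k * y) ∨ c = w * (k * a * y) := by
    intro c hc
    obtain ⟨w, hw, hwc⟩ := hsurj _ (hdK c hc)
    obtain ⟨k, hk, h⟩ := hT (w⁻¹ * c) (mul_mem (inv_mem hw.2) hc) (commute_of_dl_eq hwc)
    refine ⟨w, hw, k, hk, ?_⟩
    rcases h with h | h | h | h
    · exact Or.inl (by rw [← h]; group)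
    · exact Or.inr (Or.inl (by rw [← h]; group))
    · exact Or.inr (Or.inr (Or.inl (by rw [← h]; group)))
    · exact Or.inr (Or.inr (Or.inr (by rw [← h]; group)))
  have hdl1 : ∀ v : P, v * a = a * v → ∀ x, dl a (x * v) = dl a x := fun v hv x => by
    rw [dl_mul, dl_eq_one.2 hv]; group
  by_cases hEC : E ≤ C
  · have hya : ∃ k ∈ K, ∃ e ∈ W, y = e * k ∨ y = e * (k * a) := by
      -- the coset `W K` has index two in `C`
      obtain ⟨k, hk, hh⟩ : ∃ k ∈ K, k * y ∈ W ∨ k * a * y ∈ W := by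
        by_contra hno
        push Not at hno
        have hTK : K.relIndex T ≤ 1 := (relIndex_eq_one.2 fun x hx => by
          rcases hTcases x hx with h | ⟨-, k, hk, h | h⟩
          · exact h
          · exact absurd (h ▸ hx.1) (hno k hk).1
          · exact absurd (h ▸ hx.1) (hno k hk).2).le
        rw [relIndex_eq_one.2 hEC, mul_one] at hWK
        have h8 : 8 ≤ T.relIndex W := by
          have h1 : K.relIndex W ≤ K.relIndex T * T.relIndex W := by
            rw [← inf_relIndex_right K T, ← inf_relIndex_right K W,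
              relIndex_mul_relIndex (K ⊓ T) T W inf_le_right inf_le_left]
            exact Nat.le_of_dvd (Nat.pos_of_ne_zero Subgroup.index_ne_zero_of_finite)
              (relIndex_dvd_of_le_left W (inf_le_inf_left K inf_le_left))
          nlinarith
        have h1 := card_le_card_centralizer_mul W hdlW
        have h2 : Nat.card T * T.relIndex W = Nat.card W := H64.RankFour.card_mul_relIndex inf_le_left
        rw [show W ⊓ centralizer ({a} : Set P) = T from rfl, ← h2] at h1
        have := Nat.le_of_mul_le_mul_left h1 Nat.card_pos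
        omega
      have hyk : ∀ l ∈ K, y⁻¹ * l⁻¹ * y ∈ K := fun l hl => hKn.conj_mem' _ (inv_mem hl) y
      rcases hh with hh | hh
      · exact ⟨_, hyk k hk, k * y, hh, Or.inl (by group)⟩
      · refine ⟨_, hyk k hk, k * a * y, hh, Or.inr ?_⟩
        rw [show k * a * y * (y⁻¹ * k⁻¹ * y * a) = k * a * k⁻¹ * y * a by group,
          ← haK k hk, mul_inv_cancel_right, hay, mul_assoc, haa, mul_one]
    obtain ⟨k, hk, e₀, he₀, hye⟩ := hya
    have hKC' : ∀ x ∈ C, ∀ l ∈ K, x * l = l * x := by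
      intro x hx l hl
      have hyl : y * l = l * y := by
        rcases hye with h | h <;> rw [h]
        · rw [mul_assoc, hKc k hk l hl, ← mul_assoc, hWk e₀ he₀ l hl, mul_assoc]
        · rw [mul_assoc, mul_assoc k, haK l hl, ← mul_assoc k, hKc k hk l hl, mul_assoc l, ← mul_assoc,
            hWk e₀ he₀ l hl, mul_assoc]
      obtain ⟨w, hw, m, hm, h⟩ := hdec x hx
      have h1 : Commute w l := hWk w hw l hl
      have h2 : Commute m l := hKc m hm l hl
      have h3 : Commute a l := haK l hl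
      have h4 : Commute y l := hyl
      rcases h with rfl | rfl | rfl | rfl
      · exact h1.mul_left h2
      · exact h1.mul_left (h2.mul_left h3)
      · exact h1.mul_left (h2.mul_left h4)
      · exact h1.mul_left ((h2.mul_left h3).mul_left h4)
    apply hend
    intro e he
    have hbe : b * e * b ∈ C := by
      have := hCn.conj_mem e he.2 b
      rwa [hbi] at this
    have hee : Commute e e₀ := hEc e he.1 e₀ he₀.1
    have hek : Commute e k := hWk e he k hk
    have hkey : (b * e * b) * a = a * (b * e * b) := by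
      have hyC' : y * a = a * y := hay.symm
      obtain ⟨w, hw, m, hm, h⟩ := hdec _ hbe
      have hwe : Commute w e₀ := hEc w hw.1 e₀ he₀.1
      have hwk : Commute w k := hWk w hw k hk
      have hwm : ∀ v ∈ C, Commute m v := fun v hv => (hKC' v hv m hm).symm
      rcases hye with hy' | hy'
      · -- `e` centralizes `y`, so `b e b` centralizes `y a`
        have h0 : Commute e y := hy' ▸ hee.mul_right hek
        have h1 : Commute (b * e * b) (y * a) := by
          rw [← hby]
          show b * e * b * (b * y * b) = b * y * b * (b * e * b)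
          calc b * e * b * (b * y * b) = b * e * (b * b) * y * b := by group
            _ = b * (e * y) * b := by rw [hbb]; group
            _ = b * y * (b * b) * e * b := by rw [h0.eq, hbb]; group
            _ = _ := by group
        have h2 : Commute (b * e * b) y := by
          have hmy := hwm y hyC
          have hA : Commute a y := hay
          have hyy : Commute y y := Commute.refl y
          have hwy : Commute w y := hy' ▸ hwe.mul_right hwk
          rcases h with h | h | h | h <;> rw [h]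
          · exact hwy.mul_left hmy
          · exact hwy.mul_left (hmy.mul_left hA)
          · exact hwy.mul_left (hmy.mul_left hyy)
          · exact hwy.mul_left ((hmy.mul_left hA).mul_left hyy)
        have h3 := (h2.inv_right).mul_right h1
        rwa [← mul_assoc, inv_mul_cancel, one_mul] at h3
      · -- `y a` lies in `W K`
        have hya' : y * a = e₀ * k := by rw [hy', mul_assoc, mul_assoc k, haa, mul_one]
        have h2 : Commute (b * e * b) (y * a) := by
          have hmy := hwm _ (mul_mem hyC haC)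
          have hA : Commute a (y * a) := (show Commute a y from hay).mul_right (Commute.refl a)
          have hyy : Commute y (y * a) := (Commute.refl y).mul_right (show Commute a y from hay).symm
          have hwy : Commute w (y * a) := hya' ▸ hwe.mul_right hwk
          rcases h with h | h | h | h <;> rw [h]
          · exact hwy.mul_left hmy
          · exact hwy.mul_left (hmy.mul_left hA)
          · exact hwy.mul_left (hmy.mul_left hyy)
          · exact hwy.mul_left ((hmy.mul_left hA).mul_left hyy)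
        rw [← hby] at h2
        have h3 : Commute e y := by
          show e * y = y * e
          calc e * y = b * b * e * (b * b) * y * (b * b) := by rw [hbb]; group
            _ = b * ((b * e * b) * (b * y * b)) * b := by group
            _ = b * ((b * y * b) * (b * e * b)) * b := by rw [h2.eq]
            _ = b * b * y * (b * b) * e * (b * b) := by group
            _ = y * e := by rw [hbb]; group
        have h4 : Commute e a := by
          have h5 := ((hee.mul_right hek).inv_right).mul_right h3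
          rwa [hy', show (e₀ * k)⁻¹ * (e₀ * (k * a)) = a by group] at h5
        calc b * e * b * a = b * e * b * (b * a * b) := by rw [hba]
          _ = b * e * (b * b) * a * b := by group
          _ = b * (e * a) * b := by rw [hbb]; group
          _ = b * a * (b * b) * e * b := by rw [h4.eq, hbb]; group
          _ = b * a * b * (b * e * b) := by group
          _ = _ := by rw [hba]
    rw [dl_eq_one]
    calc e * a = b * b * e * (b * b) * (b * a * b) * 1 := by rw [hbb, hba]; group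
      _ = b * (b * e * b) * (b * b) * (a * b) := by group
      _ = b * ((b * e * b) * a) * b := by rw [hbb]; group
      _ = b * (a * (b * e * b)) * b := by rw [hkey]
      _ = b * a * b * e * (b * b) := by group
      _ = a * e := by rw [hba, hbb, mul_one]
  · obtain ⟨q₀, hq₀, hq₀C⟩ := SetLike.not_le_iff_exists.1 hEC
    obtain ⟨w₀, hw₀, k₀, hk₀, h₀⟩ := hdec _ (inv_mem (hbin q₀ hq₀C))
    set q := q₀ * w₀
    have hqE : q ∈ E := mul_mem hq₀ hw₀.1
    have hqC : q ∉ C := fun h => hq₀C ((Subgroup.mul_mem_cancel_right C hw₀.2).1 h)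
    obtain ⟨t, htdef, htcases⟩ : ∃ t, t = (b * q) ∧
        (t⁻¹ = k₀ ∨ t⁻¹ = k₀ * a ∨ t⁻¹ = k₀ * y ∨ t⁻¹ = k₀ * a * y) := by
      refine ⟨_, rfl, ?_⟩
      have e : (b * q)⁻¹ = w₀⁻¹ * (b * q₀)⁻¹ := by simp only [q]; group
      rcases h₀ with h | h | h | h
      · exact Or.inl (by rw [e, h]; group)
      · exact Or.inr (Or.inl (by rw [e, h]; group))
      · exact Or.inr (Or.inr (Or.inl (by rw [e, h]; group)))
      · exact Or.inr (Or.inr (Or.inr (by rw [e, h]; group)))
    have hta : t * a * t⁻¹ = a := by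
      have h1 : Commute t⁻¹ a := by
        have hk : Commute k₀ a := (haK k₀ hk₀).symm
        have hA : Commute y a := hay.symm
        rcases htcases with h | h | h | h <;> rw [h]
        · exact hk
        · exact hk.mul_left (Commute.refl a)
        · exact hk.mul_left hA
        · exact (hk.mul_left (Commute.refl a)).mul_left hA
      exact mul_inv_eq_iff_eq_mul.2 (Commute.inv_left_iff.1 h1).eq
    obtain ⟨κ, hκ, hty⟩ : ∃ κ ∈ K, t * y * t⁻¹ = κ * y := by
      refine ⟨_, ?_, (inv_mul_cancel_right (t * y * t⁻¹) y).symm⟩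
      have hA : a⁻¹ * y * a = y := by rw [mul_assoc, ← hay]; group
      have e : t * y * t⁻¹ * y⁻¹ = (t⁻¹)⁻¹ * y * t⁻¹ * y⁻¹ := by group
      have hk : k₀⁻¹ * (y * k₀ * y⁻¹) ∈ K := mul_mem (inv_mem hk₀) (hKn.conj_mem k₀ hk₀ y)
      rw [e]
      rcases htcases with h | h | h | h <;> rw [h]
      · rw [show k₀⁻¹ * y * k₀ * y⁻¹ = k₀⁻¹ * (y * k₀ * y⁻¹) by group]; exact hk
      · have h1 := hKn.conj_mem' _ hk a
        rw [show (k₀ * a)⁻¹ * y * (k₀ * a) * y⁻¹ = a⁻¹ * (k₀⁻¹ * (y * k₀ * y⁻¹)) * a * ((a⁻¹ * y * a) * y⁻¹) by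
          group, hA, mul_inv_cancel, mul_one]
        exact h1
      · have h1 := hKn.conj_mem' _ hk y
        rw [show (k₀ * y)⁻¹ * y * (k₀ * y) * y⁻¹ = y⁻¹ * (k₀⁻¹ * (y * k₀ * y⁻¹)) * y by group]
        exact h1
      · have h1 := hKn.conj_mem' _ (hKn.conj_mem' _ hk a) y
        rw [show (k₀ * a * y)⁻¹ * y * (k₀ * a * y) * y⁻¹ = y⁻¹ * (a⁻¹ * (k₀⁻¹ * (y * k₀ * y⁻¹)) * a) * y
          * (y⁻¹ * (a⁻¹ * y * a)) by group, hA, inv_mul_cancel, mul_one]
        exact h1
    have hqdef : q = b * t := by rw [htdef, ← mul_assoc, hbb, one_mul]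
    have hqa : q * a * q⁻¹ = a := by
      rw [hqdef, show b * t * a * (b * t)⁻¹ = b * (t * a * t⁻¹) * b⁻¹ by group, hta, hbi, hba]
    obtain ⟨κ', hκ', hqy⟩ : ∃ κ' ∈ K, q * y * q⁻¹ = κ' * (y * a) := by
      refine ⟨b * κ * b⁻¹, hKn.conj_mem κ hκ b, ?_⟩
      rw [hqdef, show b * t * y * (b * t)⁻¹ = b * (t * y * t⁻¹) * b⁻¹ by group, hty, ← hby, hbi]
      calc b * (κ * y) * b = b * κ * (b * b) * y * b := by rw [hbb]; group
        _ = _ := by group
    have hqK : ∀ k ∈ K, q * k = k * q := by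
      intro k hk
      obtain ⟨w, hw, rfl⟩ := hsurj k hk
      refine mul_inv_eq_iff_eq_mul.1 ?_
      calc q * dl a w * q⁻¹ = dl (q * a * q⁻¹) (q * w * q⁻¹) := by simp only [dl]; group
        _ = _ := by rw [hqa, mul_inv_eq_iff_eq_mul.2 (hEc q hqE w hw.1)]
    apply hend
    intro w hw
    have hwκ : w * κ' * w⁻¹ = κ' := mul_inv_eq_iff_eq_mul.2 (hWk w hw κ' hκ')
    have hqw : q * w * q⁻¹ = w := mul_inv_eq_iff_eq_mul.2 (hEc q hqE w hw.1)
    have hqd : q * (w * y * w⁻¹ * y⁻¹) * q⁻¹ =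
        κ' * ((w * y * w⁻¹ * y⁻¹) * (y * dl a w * y⁻¹)) * κ'⁻¹ := by
      calc q * (w * y * w⁻¹ * y⁻¹) * q⁻¹
          = (q * w * q⁻¹) * (q * y * q⁻¹) * (q * w * q⁻¹)⁻¹ * (q * y * q⁻¹)⁻¹ := by group
        _ = (w * κ' * w⁻¹) * (w * y * a * w⁻¹) * (a⁻¹ * y⁻¹) * κ'⁻¹ := by rw [hqw, hqy]; group
        _ = _ := by rw [hwκ]; simp only [dl]; group
    obtain ⟨d, hd⟩ : ∃ d, d = w * y * w⁻¹ * y⁻¹ := ⟨_, rfl⟩
    rw [← hd] at hqd
    have hdC : d ∈ C := hd ▸ mul_mem (mul_mem (mul_mem hw.2 hyC) (inv_mem hw.2)) (inv_mem hyC)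
    have hdl : y * dl a w * y⁻¹ ∈ K := hKn.conj_mem _ (hdlW w hw) y
    have hqdK : q * d * q⁻¹ * d⁻¹ ∈ K := by
      rw [hqd, show κ' * (d * (y * dl a w * y⁻¹)) * κ'⁻¹ * d⁻¹ =
        κ' * (d * ((y * dl a w * y⁻¹) * κ'⁻¹) * d⁻¹) by group]
      exact mul_mem hκ' (hKn.conj_mem _ (mul_mem hdl (inv_mem hκ')) d)
    obtain ⟨w', hw', l, hl, hdcase⟩ := hdec d hdC
    have hqw' : Commute q w' := hEc q hqE w' hw'.1
    have hql : Commute q l := hqK l hl
    have hqA : Commute q a := mul_inv_eq_iff_eq_mul.1 hqa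
    -- the `y` component is absent
    obtain hd' | hd' : d = w' * l ∨ d = w' * (l * a) := by
      have key : ∀ v, Commute q v → d = v * y → False := by
        intro v hv e
        refine haK' ?_
        have h3 : q * y * q⁻¹ * y⁻¹ ∈ K → a ∈ K := fun h => by
          rw [hqy, ← hay, show κ' * (a * y) * y⁻¹ = κ' * a by group] at h
          exact (mul_mem_cancel_left hκ').1 h
        refine h3 ?_
        have h1 : v⁻¹ * (q * d * q⁻¹ * d⁻¹) * v ∈ K := hKn.conj_mem' _ hqdK v
        have h2 : v⁻¹ * (q * d * q⁻¹ * d⁻¹) * v = q * y * q⁻¹ * y⁻¹ := by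
          rw [e, show v⁻¹ * (q * (v * y) * q⁻¹ * (v * y)⁻¹) * v = v⁻¹ * (q * v * q⁻¹) * (q * y * q⁻¹ * y⁻¹) by group,
            mul_inv_eq_iff_eq_mul.2 hv.eq]
          group
        rwa [h2] at h1
      rcases hdcase with h | h | h | h
      · exact Or.inl h
      · exact Or.inr h
      · exact (key (w' * l) (hqw'.mul_right hql) (by rw [h, mul_assoc])).elim
      · exact (key (w' * (l * a)) (hqw'.mul_right (hql.mul_right hqA)) (by rw [h]; simp only [mul_assoc])).elim
    all_goals
      have hqd' : Commute q d := by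
        first
        | exact hd' ▸ hqw'.mul_right hql
        | exact hd' ▸ hqw'.mul_right (hql.mul_right hqA)
      have hκd : Commute κ' d := by
        first
        | exact hd' ▸ (show Commute κ' w' from (hWk w' hw' κ' hκ').symm).mul_right (hKc κ' hκ' l hl)
        | exact hd' ▸ (show Commute κ' w' from (hWk w' hw' κ' hκ').symm).mul_right
            ((show Commute κ' l from hKc κ' hκ' l hl).mul_right (haK κ' hκ').symm)
      rw [mul_inv_eq_iff_eq_mul.2 hqd'.eq] at hqd
      have h5 : κ' * (d * (y * dl a w * y⁻¹)) * κ'⁻¹ = d * (y * dl a w * y⁻¹) := by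
        rw [← mul_assoc, hκd.eq, mul_assoc d κ', hKc κ' hκ' _ hdl, ← mul_assoc, mul_inv_cancel_right]
      rw [h5] at hqd
      exact conj_eq_one_iff.1 (mul_eq_left.1 hqd.symm)

end Cfsg.Agent.H32.Harada
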