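import Cfsg.Agent.H32.Harada.CaseOne
import Cfsg.Agent.H32.Harada.FullClass
import Cfsg.Agent.H32.Harada.Quotient

/-!
The case of a normal four-group outside the self-centralizing elementary abelian subgroup of order eight.
-/

set_option autoImplicit false
set_option maxHeartbeats 1000000

namespace Cfsg.Agent.H32.Harada

open Subgroup

variable {S : Type*} [Group S] [Finite S]

omit [Finite S] in
/-- A power of an element of order at most two. -/
theorem zpow_eq_one_or_self {g : S} (hg : g * g = 1) (n : ℤ) : g ^ n = 1 ∨ g ^ n = g := by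
  rcases Int.even_or_odd' n with ⟨j, rfl | rfl⟩
  · exact Or.inl (by rw [zpow_mul, zpow_two, hg, one_zpow])
  · exact Or.inr (by rw [zpow_add_one, zpow_mul, zpow_two, hg, one_zpow, one_mul])

/-- What remains of the second case: `X = C_C(a)` has order sixteen and `b` moves `y` to `y a`. -/
structure PairData (C U : Subgroup S) (z a b y : S) : Prop where
  indexC : C.index = 2
  normalC : C.Normal
  central : ∀ x ∈ C, ∀ v ∈ U, x * v = v * x
  normalU : U.Normal
  cardU : Nat.card U = 4
  sqU : ∀ v ∈ U, v * v = 1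
  zU : z ∈ U
  zC : z ∈ center S
  aC : a ∈ C
  aa : a * a = 1
  aU : a ∉ U
  bC : b ∉ C
  bb : b * b = 1
  bab : b * a * b = a
  yC : y ∈ C
  ay : a * y = y * a
  byb : b * y * b = y * a
  y2 : y * y = 1 ∨ y * y = z
  inX : ∀ x ∈ C, x * a = a * x → ∃ v ∈ U, x = v ∨ x = v * a ∨ x = v * y ∨ x = v * a * y
  fix : ∀ x ∈ C, x * a = a * x → b * x * b = x → ∃ v ∈ U, (v = 1 ∨ v = z) ∧ (x = v ∨ x = v * a)
  move : ∃ m ∈ C, m * a * m⁻¹ = a * z
  z1 : z ≠ 1
  uC : U ≤ C

namespace PairData

variable {C U : Subgroup S} {z a b y : S}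

omit [Finite S] in
theorem a_ne_one (h : PairData C U z a b y) : a ≠ 1 := fun e => h.aU (e ▸ one_mem U)

omit [Finite S] in
theorem commute_y2 (h : PairData C U z a b y) (g : S) : g * (y * y) = y * y * g := by
  rcases h.y2 with e | e <;> rw [e]
  · rw [mul_one, one_mul]
  · exact mem_center_iff.1 h.zC g

omit [Finite S] in
theorem sq_g (h : PairData C U z a b y) : b * y * (b * y) = a * (y * y) := by
  calc b * y * (b * y) = b * y * b * y := by group
    _ = y * a * y := by rw [h.byb]
    _ = a * (y * y) := by rw [← h.ay, mul_assoc]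

theorem card_centralizer_a (h : PairData C U z a b y) : Nat.card ↥(C ⊓ centralizer {a}) ≤ 16 := by
  let f : U × Bool × Bool → S := fun p =>
    (p.1 : S) * (if p.2.1 then a else 1) * (if p.2.2 then y else 1)
  have hsub : ((C ⊓ centralizer {a} : Subgroup S) : Set S) ⊆ Set.range f := by
    intro x hx
    obtain ⟨v, hv, e⟩ := h.inX x hx.1 (mem_centralizer_singleton_iff.1 hx.2)
    rcases e with rfl | rfl | rfl | rfl
    · exact ⟨⟨⟨x, hv⟩, false, false⟩, by simp [f]⟩
    · exact ⟨⟨⟨v, hv⟩, true, false⟩, by simp [f]⟩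
    · exact ⟨⟨⟨v, hv⟩, false, true⟩, by simp [f]⟩
    · exact ⟨⟨⟨v, hv⟩, true, true⟩, by simp [f]⟩
  refine (Nat.card_mono (Set.finite_range f) hsub).trans ((Finite.card_range_le f).trans ?_)
  rw [Nat.card_prod, h.cardU]
  simp [Nat.card_eq_fintype_card]

theorem card_centralizer_g (h : PairData C U z a b y) : Nat.card ↥(centralizer ({b * y} : Set S)) ≤ 8 := by
  set G₀ := centralizer ({b * y} : Set S)
  have hsub : G₀ ⊓ C ≤ zpowers z ⊔ zpowers a := by
    intro v hv
    have hg := mem_centralizer_singleton_iff.1 hv.1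
    have h1 : Commute v (a * (y * y)) := h.sq_g ▸ (show Commute v (b * y) from hg).mul_right hg
    have hva : v * a = a * v := by
      have h2 := h1.mul_right (show Commute v (y * y)⁻¹ from ((show Commute v (y * y) from h.commute_y2 v)).inv_right)
      rwa [mul_inv_cancel_right] at h2
    obtain ⟨w, hw, e⟩ := h.inX v hv.2 hva
    have hwy : Commute w y := (h.central y h.yC w hw).symm
    have hay : Commute a y := h.ay
    have hvy : Commute v y := by
      rcases e with rfl | rfl | rfl | rfl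
      · exact hwy
      · exact hwy.mul_left hay
      · exact hwy.mul_left (Commute.refl y)
      · exact (hwy.mul_left hay).mul_left (Commute.refl y)
    have hvb : b * v * b = v := by
      have h2 : v * b = b * v := by
        refine mul_right_cancel (b := y) ?_
        calc v * b * y = b * y * v := by rw [mul_assoc, hg]
          _ = b * v * y := by rw [mul_assoc, ← hvy.eq, ← mul_assoc]
      rw [← h2, mul_assoc, h.bb, mul_one]
    obtain ⟨t, -, ht, e⟩ := h.fix v hv.2 hva hvb
    have htz : t ∈ zpowers z := by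
      rcases ht with rfl | rfl
      · exact one_mem _
      · exact mem_zpowers t
    rcases e with rfl | rfl
    · exact mem_sup_left htz
    · exact mul_mem (mem_sup_left htz) (mem_sup_right (mem_zpowers a))
  have hn : (zpowers z).Normal := PGroups.normal_of_le_center (zpowers_le.2 h.zC)
  have hz2 : Nat.card (zpowers z) ≤ 2 := by
    rw [Nat.card_zpowers]
    exact orderOf_le_of_pow_eq_one two_pos (by rw [pow_two]; exact h.sqU z h.zU)
  have ha2 : Nat.card (zpowers a) ≤ 2 := by
    rw [Nat.card_zpowers]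
    exact orderOf_le_of_pow_eq_one two_pos (by rw [pow_two, h.aa])
  have h4 : Nat.card ↥(zpowers z ⊔ zpowers a) ≤ 4 := by
    rw [← H64.RankFour.card_mul_relIndex (le_sup_left : zpowers z ≤ zpowers z ⊔ zpowers a), sup_comm,
      relIndex_sup_right]
    exact Nat.mul_le_mul hz2 ((Nat.le_of_dvd Nat.card_pos (index_dvd_card _)).trans ha2)
  have hrel : C.relIndex G₀ ≤ 2 :=
    (relIndex_le_of_le_right (le_top : G₀ ≤ ⊤) Subgroup.index_ne_zero_of_finite).trans
      (by rw [relIndex_top_right, h.indexC])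
  rw [← H64.RankFour.card_inf_mul_relIndex G₀ C]
  exact le_trans (Nat.mul_le_mul ((card_le_of_le hsub).trans h4) hrel) le_rfl

theorem b_moves (hS : IsPGroup 2 S) (h : PairData C U z a b y) (v : S) (hv : v ∈ U) :
    ∃ w ∈ U, (w = 1 ∨ w = z) ∧ b * v * b = w * v := by
  classical
  have := h.normalU
  obtain ⟨z', u, hz'U, hu, hz'c, hz'1, hu1, huz', hall, hmove⟩ := four_group hS h.cardU h.sqU
  have hbi : b⁻¹ = b := inv_eq_of_mul_eq_one_right h.bb
  by_cases hzz : z = z'
  · subst hzz
    have hbz : b * z * b = z := by rw [mem_center_iff.1 h.zC b, mul_assoc, h.bb, mul_one]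
    have hbu := hmove b
    rw [hbi] at hbu
    rcases hall v hv with rfl | rfl | rfl | rfl
    · exact ⟨1, one_mem U, Or.inl rfl, by rw [mul_one, mul_one, h.bb]⟩
    · exact ⟨1, one_mem U, Or.inl rfl, by rw [one_mul, hbz]⟩
    · rcases hbu with e | e
      · exact ⟨1, one_mem U, Or.inl rfl, by rw [one_mul, e]⟩
      · exact ⟨z, hz'U, Or.inr rfl, by rw [e, mem_center_iff.1 h.zC]⟩
    · have e' : b * (u * z) * b = b * u * b * z := by
        rw [mul_assoc b (u * z) b, mul_assoc u z b, ← mem_center_iff.1 h.zC b]; group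
      rcases hbu with e | e
      · exact ⟨1, one_mem U, Or.inl rfl, by rw [one_mul, e', e]⟩
      · exact ⟨z, hz'U, Or.inr rfl, by rw [e', e, mem_center_iff.1 h.zC (u * z)]⟩
  · -- two central involutions make all of `U` central
    refine ⟨1, one_mem U, Or.inl rfl, ?_⟩
    have hc : v ∈ center S := by
      rcases hall z h.zU with e | e | e | e
      · exact absurd e h.z1
      · exact absurd e hzz
      all_goals
        have huc : u ∈ center S := by
          first
          | exact e ▸ h.zC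
          | (have h1 := mul_mem h.zC hz'c
             rwa [e, mul_assoc, h.sqU z' hz'U, mul_one] at h1)
        rcases hall v hv with rfl | rfl | rfl | rfl
        exacts [one_mem _, hz'c, huc, mul_mem huc hz'c]
    rw [one_mul, mem_center_iff.1 hc b, mul_assoc, h.bb, mul_one]

/-- No section has a bad image modulo the squares of `K`. -/
theorem no_section (hS : IsPGroup 2 S) (h : PairData C U z a b y) {K Q : Subgroup S} (hKn : K.Normal)
    (hKC : K ≤ C) (hKc : ∀ k ∈ K, ∀ l ∈ K, k * l = l * k) (h16 : K.relIndex C = 16)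
    (hdK : ∀ x ∈ C, dl a x ∈ K) (hsurj : ∀ k ∈ K, ∃ x ∈ C, dl a x = k) (hdlK : ∀ k ∈ K, dl a k = k * k)
    (haK : a ∉ K) (hV : ∀ r ∈ K, r * r = 1 → r ∈ U ⊓ K) (hV4 : Nat.card ↥(U ⊓ K) ≤ 4) (hUK : U ≤ K)
    (he8 : K.relIndex Q = 8) (hcomm : ∀ x ∈ Q, ∀ x' ∈ Q, x * x' * x⁻¹ * x'⁻¹ ∈ squares K hKc)
    (hsq : ∀ x ∈ Q, x * x ∈ squares K hKc) (havoid : ∀ k ∈ K, k * a ∉ Q) : False := by
  have : Fact (Nat.Prime 2) := ⟨Nat.prime_two⟩
  have hCn : C.Normal := h.normalC
  have hK2n : (squares K hKc).Normal := squares_normal hKc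
  have hK2K : squares K hKc ≤ K := squares_le hKc
  obtain ⟨π, hπdef⟩ : ∃ f : S →* S ⧸ squares K hKc, f = QuotientGroup.mk' _ := ⟨_, rfl⟩
  have hπ : ∀ x, π x = 1 ↔ x ∈ squares K hKc := fun x => by
    subst hπdef; exact QuotientGroup.eq_one_iff x
  have hsurjπ : Function.Surjective π := hπdef ▸ QuotientGroup.mk'_surjective _
  have hker : π.ker = squares K hKc := by ext x; exact hπ x
  have hkerK : π.ker ≤ K := hker.le.trans hK2K
  have hkerC : π.ker ≤ C := hkerK.trans hKC
  have : (C.map π).Normal := hCn.map π hsurjπ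
  have : (K.map π).Normal := hKn.map π hsurjπ
  have hmemC : ∀ x, π x ∈ C.map π → x ∈ C := by
    rintro x ⟨c, hc, e⟩
    have h1 : c⁻¹ * x ∈ π.ker := by rw [MonoidHom.mem_ker, map_mul, map_inv, e, inv_mul_cancel]
    have := mul_mem hc (hkerC h1)
    rwa [mul_inv_cancel_left] at this
  have hmemK : ∀ x, π x ∈ K.map π → x ∈ K := by
    rintro x ⟨c, hc, e⟩
    have h1 : c⁻¹ * x ∈ π.ker := by rw [MonoidHom.mem_ker, map_mul, map_inv, e, inv_mul_cancel]
    have := mul_mem hc (hkerK h1)
    rwa [mul_inv_cancel_left] at this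
  have hcomm' : ∀ x x', x * x' * x⁻¹ * x'⁻¹ ∈ squares K hKc → π x * π x' = π x' * π x := by
    intro x x' hh
    refine commutatorElement_eq_one_iff_mul_comm.1 ?_
    rw [← map_commutatorElement]
    exact (hπ _).2 hh
  refine no_elementary (hS.to_quotient (squares K hKc)) (C := C.map π) (K := K.map π) (E := Q.map π)
    (a := π a) (y := π y) (b := π b) (map_mono hKC) ?_ ?_ ?_ ?_ (mem_map_of_mem π h.aC) (mem_map_of_mem π h.yC)
    (fun e => h.bC (hmemC b e)) (by rw [← map_mul, h.aa, map_one]) (by rw [← map_mul, h.bb, map_one])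
    (by rw [← map_mul, h.ay, map_mul]) (by rw [← map_mul, ← map_mul, h.bab])
    (by rw [← map_mul, ← map_mul, h.byb, map_mul]) ?_ ?_ ?_ ?_ ?_ (fun e => haK (hmemK a e)) ?_ ?_ ?_ ?_
  · exact le_of_eq ((index_map_eq C hsurjπ hkerC).trans h.indexC)
  · have h1 : (squares K hKc).relIndex K = Nat.card ↥(K.map π) :=
      (congrArg (fun L : Subgroup S => L.relIndex K) hker).symm.trans (Subgroup.relIndex_ker (K := K) π)
    rw [← h1]
    exact (relIndex_squares_le hKc hV).trans hV4
  · rintro _ ⟨k, hk, rfl⟩ _ ⟨l, hl, rfl⟩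
    rw [← map_mul, hKc k hk l hl, map_mul]
  · rintro _ ⟨k, hk, rfl⟩
    rw [← map_mul]
    exact (hπ _).2 ⟨k, hk, rfl⟩
  · rintro _ ⟨k, hk, rfl⟩
    refine (hcomm' k a ?_).symm
    show dl a k ∈ squares K hKc
    exact ⟨k, hk, (hdlK k hk).symm⟩
  · rintro _ ⟨x, hx, rfl⟩
    rw [← map_dl]
    exact mem_map_of_mem π (hdK x hx)
  · rintro _ ⟨x, hx, rfl⟩ hxa
    have h1 : dl a x ∈ squares K hKc := by rw [← hπ, map_dl, dl_eq_one]; exact hxa
    obtain ⟨e, he, hee⟩ := h1
    rw [← hdlK e he] at hee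
    obtain ⟨v, hv, hh⟩ := h.inX (e⁻¹ * x) (mul_mem (inv_mem (hKC he)) hx) (commute_of_dl_eq hee)
    refine ⟨π (e * v), mem_map_of_mem π (mul_mem he (hUK hv)), ?_⟩
    rcases hh with hh | hh | hh | hh
    · left; rw [← hh, mul_inv_cancel_left]
    · right; left; rw [← map_mul, mul_assoc, ← hh, mul_inv_cancel_left]
    · right; right; left; rw [← map_mul, mul_assoc, ← hh, mul_inv_cancel_left]
    · right; right; right; rw [← map_mul, ← map_mul, mul_assoc e v, mul_assoc e, ← hh, mul_inv_cancel_left]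
  · rw [relIndex_map_map, sup_eq_left.2 hkerK, sup_eq_left.2 hkerC, h16]
  · rintro _ ⟨k, hk, rfl⟩
    obtain ⟨x, hx, rfl⟩ := hsurj k hk
    exact ⟨π x, mem_map_of_mem π hx, (map_dl π a x).symm⟩
  · rintro _ ⟨x, hx, rfl⟩ _ ⟨x', hx', rfl⟩
    exact hcomm' x x' (hcomm x hx x' hx')
  · rintro _ ⟨x, hx, rfl⟩
    rw [← map_mul]
    exact (hπ _).2 (hsq x hx)
  · rintro _ ⟨k, hk, rfl⟩ ⟨q, hq, e⟩
    have h1 : (k * a)⁻¹ * q ∈ π.ker := by
      rw [MonoidHom.mem_ker, map_mul, map_inv, map_mul, e, inv_mul_cancel]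
    refine havoid (k * (a * ((k * a)⁻¹ * q) * a⁻¹)) (mul_mem hk (hKn.conj_mem _ (hkerK h1) a)) ?_
    rw [show k * (a * ((k * a)⁻¹ * q) * a⁻¹) * a = q by group]
    exact hq
  · rw [relIndex_map_map, sup_eq_left.2 hkerK, ← relIndex_sup_right,
      show Q ⊔ π.ker ⊔ K = Q ⊔ K by rw [sup_assoc, sup_eq_right.2 hkerK], relIndex_sup_right, he8]

/-- The bound in the second case. -/
theorem squareBound (hS : IsPGroup 2 S) (h : PairData C U z a b y) : H64.RankFour.SquareBound S := by
  classical
  have : Fact (Nat.Prime 2) := ⟨Nat.prime_two⟩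
  have hCn : C.Normal := h.normalC
  have hai : a⁻¹ = a := inv_eq_of_mul_eq_one_right h.aa
  have hbi : b⁻¹ = b := inv_eq_of_mul_eq_one_right h.bb
  have hba : b * a * b⁻¹ = a := by rw [hbi, h.bab]
  have hCQ : ∀ Q : Subgroup S, C.relIndex Q ≤ 2 := fun Q =>
    (relIndex_le_of_le_right (le_top : Q ≤ ⊤) Subgroup.index_ne_zero_of_finite).trans
      (by rw [relIndex_top_right, h.indexC])
  obtain ⟨m, hm, hma⟩ := h.move
  have hdm : dl a m = z := by
    rw [dl, hma, mem_center_iff.1 h.zC a, mul_inv_cancel_right]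
  have hmove : ¬ ∀ x ∈ C, x * a = a * x := by
    intro hh
    rw [mul_inv_eq_iff_eq_mul.2 (hh m hm)] at hma
    exact h.z1 (mul_eq_left.1 hma.symm)
  have hUC : U ≤ C := h.uC
  have hnaC : center ↥C ≠ ⊤ := fun e => hmove fun x hx =>
    congrArg Subtype.val (mem_center_iff.1 (e.ge (mem_top (⟨a, h.aC⟩ : C))) ⟨x, hx⟩)
  have hZC : 4 ≤ Nat.card (center ↥C) := by
    rw [← h.cardU]
    refine Nat.card_le_card_of_injective (fun x : U => (⟨⟨x, hUC x.2⟩, mem_center_iff.2 fun g =>
      Subtype.ext (h.central g g.2 x x.2)⟩ : center ↥C)) fun x x' e =>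
      Subtype.ext (congrArg (fun v : center ↥C => ((v : C) : S)) e)
  have hidx : (⁅C, C⁆ : Subgroup S).relIndex C = (commutator ↥C).index := by
    rw [show (⁅C, C⁆ : Subgroup S) = (commutator ↥C).map C.subtype from (map_subtype_commutator C).symm,
      relIndex]
    congr 1
    exact comap_map_eq_self_of_injective C.subtype_injective _
  have hzD : z ∈ (⁅C, C⁆ : Subgroup S) := hdm ▸ commutator_mem_commutator hm h.aC
  have hy2 : y * y ∈ (⁅C, C⁆ : Subgroup S) := by
    rcases h.y2 with e | e <;> rw [e]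
    exacts [one_mem _, hzD]
  set K := closure {v | ∃ x ∈ C, dl a x = v}
  have hKn : K.Normal := closure_dl_normal h.bC h.indexC hba
  have h16 : K.relIndex C = 16 := index_dl_closure hS h.aC h.yC h.a_ne_one h.aa h.bb h.bab h.byb h.ay hy2
    h.card_centralizer_a hmove (hidx ▸ eight_le_index_commutator (hS.to_subgroup C) hZC hnaC)
  have hdK : ∀ x ∈ C, dl a x ∈ K := fun x hx => subset_closure ⟨x, hx, rfl⟩
  have hKC : K ≤ C := (closure_le _).2 (by
    rintro _ ⟨x, hx, rfl⟩
    exact mul_mem (mul_mem (mul_mem hx h.aC) (inv_mem hx)) (inv_mem h.aC))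
  have hsurj : ∀ k ∈ K, ∃ x ∈ C, dl a x = k := fun k hk => dl_surj C hdK
    (by
      rw [← H64.RankFour.card_mul_relIndex hKC, h16, mul_comm _ (Nat.card K)]
      exact Nat.mul_le_mul le_rfl h.card_centralizer_a) hk
  have hs : ∀ k ∈ K, ∃ x, dl a x = k := fun k hk => by
    obtain ⟨x, -, hx⟩ := hsurj k hk
    exact ⟨x, hx⟩
  have hinv : ∀ k ∈ K, a * k * a = k⁻¹ := fun k hk => full_inverts h.aa hs hk
  have hKc : ∀ k ∈ K, ∀ l ∈ K, k * l = l * k := fun k hk l hl => full_comm h.aa hs hk hl
  have haK : a ∉ K := full_not_mem h.aa h.a_ne_one hs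
  have hdlK : ∀ k ∈ K, dl a k = k * k := fun k hk => by
    calc dl a k = k * (a * k⁻¹ * a) := by simp only [dl, hai]; group
      _ = k * k := by rw [hinv _ (inv_mem hk), inv_inv]
  have hzaK : ∀ w ∈ U, (w = 1 ∨ w = z) → w * a ∉ K := by
    rintro w - (rfl | rfl) hh
    · exact haK (by rwa [one_mul] at hh)
    · refine haK ?_
      have := hKn.conj_mem' _ hh m
      rwa [← mem_center_iff.1 h.zC a, ← hma, show m⁻¹ * (m * a * m⁻¹) * m = a by group] at this
  have hV : ∀ r ∈ K, r * r = 1 → r ∈ U ⊓ K := by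
    intro r hr hr2
    refine ⟨?_, hr⟩
    have hra : r * a = a * r := by
      have h1 := hinv r hr
      rw [← eq_inv_of_mul_eq_one_left hr2] at h1
      calc r * a = a * r * a * a := by rw [h1]
        _ = a * r := by rw [mul_assoc, h.aa, mul_one]
    obtain ⟨v, hv, e⟩ := h.inX r (hKC hr) hra
    have hbr : r⁻¹ * (b * r * b) ∈ K := mul_mem (inv_mem hr) (by
      have := hKn.conj_mem r hr b
      rwa [hbi] at this)
    obtain ⟨w, hw, hwz, hbv⟩ : ∃ w ∈ U, (w = 1 ∨ w = z) ∧ b * v * b = w * v := h.b_moves hS v hv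
    rcases e with rfl | rfl | rfl | rfl
    · exact hv
    · exfalso
      obtain ⟨x, hx, hxr⟩ := hsurj _ hr
      have h1 : x * a * x⁻¹ = v := by rw [conj_eq_dl_mul, hxr, mul_assoc, h.aa, mul_one]
      have h2 : a = x⁻¹ * v * x := by rw [← h1]; group
      rw [mul_assoc, ← h.central x hx v hv, inv_mul_cancel_left] at h2
      exact h.aU (h2 ▸ hv)
    · refine absurd ?_ (hzaK w hw hwz)
      rwa [show b * (v * y) * b = b * v * b * ((b * b)⁻¹ * (b * y * b)) by group, hbv, h.byb, h.bb, inv_one,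
        one_mul, show (v * y)⁻¹ * (w * v * (y * a)) = y⁻¹ * v⁻¹ * (w * v) * y * a by group,
        mul_assoc y⁻¹, ← h.central v (hUC hv) w hw, inv_mul_cancel_left,
        mul_assoc y⁻¹ w y, ← h.central y h.yC w hw, inv_mul_cancel_left] at hbr
    · refine absurd ?_ (hzaK w hw hwz)
      rwa [show b * (v * a * y) * b = b * v * b * ((b * b)⁻¹ * (b * a * b)) * ((b * b)⁻¹ * (b * y * b)) by group,
        hbv, h.bab, h.byb, h.bb, inv_one, one_mul, one_mul,
        show (v * a * y)⁻¹ * (w * v * a * (y * a)) = (a * y)⁻¹ * v⁻¹ * (w * v) * (a * y) * a by group,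
        mul_assoc (a * y)⁻¹, ← h.central v (hUC hv) w hw, inv_mul_cancel_left,
        mul_assoc (a * y)⁻¹ w (a * y), ← h.central _ (mul_mem h.aC h.yC) w hw, inv_mul_cancel_left] at hbr
  intro Q N hNQ hn hsq
  by_contra hbad
  push Not at hbad
  -- the section avoids the class of `a`
  have havoid : ∀ k ∈ K, k * a ∉ Q := by
    intro k hk hQ
    obtain ⟨x, -, rfl⟩ := hsurj k hk
    rw [← conj_eq_dl_mul] at hQ
    have h1 := section_le_centralizer hNQ hn hsq hQ
    set G₁ := centralizer ({x * a * x⁻¹} : Set S)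
    have h32 : Nat.card G₁ ≤ 32 := by
      rw [card_centralizer_conj, ← H64.RankFour.card_inf_mul_relIndex _ C]
      rw [inf_comm]
      exact le_trans (Nat.mul_le_mul h.card_centralizer_a (hCQ _)) le_rfl
    have heq : Q ⊓ G₁ = G₁ := by
      refine eq_of_le_of_card_ge inf_le_right ?_
      by_contra hlt
      obtain ⟨c, hc⟩ := card_dvd_of_le (inf_le_right : Q ⊓ G₁ ≤ G₁)
      have hc1 : c ≠ 1 := fun e => hlt (by rw [hc, e, mul_one])
      have hc0 : c ≠ 0 := fun e => by rw [e, mul_zero] at hc; exact Nat.card_pos.ne' hc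
      have : 2 ≤ c := by omega
      nlinarith
    have hin : ∀ v, v * a = a * v → x * v * x⁻¹ ∈ Q := fun v hv =>
      (heq.ge (mem_centralizer_singleton_iff.2 (by
        calc x * v * x⁻¹ * (x * a * x⁻¹) = x * (v * a) * x⁻¹ := by group
          _ = _ := by rw [hv]; group) : x * v * x⁻¹ ∈ G₁)).1
    have hg : x * (b * y) * x⁻¹ ∈ Q := by
      refine hin _ ?_
      rw [mul_assoc, ← h.ay, ← mul_assoc, ← mul_assoc]
      congr 1
      calc b * a = b * a * b * b := by rw [mul_assoc (b * a), h.bb, mul_one]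
        _ = a * b := by rw [h.bab]
    have h2 := section_le_centralizer hNQ hn hsq hg
    have h3 := card_le_of_le (inf_le_right : Q ⊓ centralizer {x * (b * y) * x⁻¹} ≤ _)
    rw [card_centralizer_conj] at h3
    have := h.card_centralizer_g
    omega
  set W := Q ⊓ C
  have hsupn : ∀ x ∈ W ⊔ K, ∃ w ∈ W, ∃ k ∈ K, w * k = x := fun x hx => by
    have hx' : x ∈ ((W ⊔ K : Subgroup S) : Set S) := hx
    rw [Subgroup.mul_normal] at hx'
    exact hx'
  have haWK : a ∉ W ⊔ K := by
    intro hh
    obtain ⟨w, hw, k, hk, hwk⟩ := hsupn a hh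
    refine havoid (a * k⁻¹ * a⁻¹) (hKn.conj_mem _ (inv_mem hk) a) ?_
    rw [inv_mul_cancel_right, ← hwk, mul_inv_cancel_right]
    exact hw.1
  have hHC : W ⊔ K ≤ C := sup_le inf_le_right hKC
  have hWrel : K.relIndex W * (W ⊔ K).relIndex C = 16 := by
    rw [← h16, ← relIndex_sup_right, relIndex_mul_relIndex K (W ⊔ K) C le_sup_right hHC]
  have hW8 : K.relIndex W ≤ 8 := by
    have h1 : (W ⊔ K).relIndex C ≠ 1 := fun e => haWK (relIndex_eq_one.1 e h.aC)
    have h0 : (W ⊔ K).relIndex C ≠ 0 := Subgroup.index_ne_zero_of_finite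
    have : 2 ≤ (W ⊔ K).relIndex C := by omega
    nlinarith
  have hsplit : K.relIndex Q = K.relIndex W * C.relIndex Q := by
    rw [← inf_relIndex_left Q K, ← inf_relIndex_left Q C,
      ← relIndex_mul_relIndex (Q ⊓ K) W Q (inf_le_inf_left Q hKC) inf_le_left, ← inf_relIndex_right K W]
    congr 2
    symm
    show K ⊓ (Q ⊓ C) = Q ⊓ K
    rw [← inf_assoc, inf_comm K Q, inf_assoc, inf_eq_left.2 hKC]
  have he : K.relIndex Q ≤ 8 := by
    by_cases hQC : Q ≤ C
    · rw [hsplit, relIndex_eq_one.2 hQC, mul_one]; exact hW8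
    obtain ⟨q, hq, hqC⟩ := SetLike.not_le_iff_exists.1 hQC
    have hW4 : K.relIndex W ≤ 4 := by
      by_contra h5
      push Not at h5
      obtain ⟨i, -, hi⟩ := (Nat.dvd_prime_pow Nat.prime_two).1 (show K.relIndex W ∣ 2 ^ 4 from ⟨_, hWrel.symm⟩)
      have h88 := dvd_eight hi h5 hW8
      have hH2 : ((W ⊔ K).subgroupOf C).index = 2 := by
        show (W ⊔ K).relIndex C = 2
        rw [h88] at hWrel
        omega
      have hHn : ((W ⊔ K).subgroupOf C).Normal := normal_of_index_eq_two hH2
      -- `b` normalizes `W K`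
      obtain ⟨c, hc⟩ : ∃ c, c = b * q := ⟨_, rfl⟩
      have hcC : c ∈ C := hc ▸ (mul_mem_iff_of_index_two h.indexC).2
        ⟨fun hh => absurd hh h.bC, fun hh => absurd hh hqC⟩
      have hbH : ∀ v ∈ W ⊔ K, b * v * b ∈ W ⊔ K := by
        intro v hv
        have h1 : q⁻¹ * v * q ∈ W ⊔ K := by
          obtain ⟨w, hw, k, hk, rfl⟩ := hsupn v hv
          rw [show q⁻¹ * (w * k) * q = q⁻¹ * w * q * (q⁻¹ * k * q) by group]
          exact mul_mem (mem_sup_left ⟨Q.mul_mem (Q.mul_mem (Q.inv_mem hq) hw.1) hq, hCn.conj_mem' w hw.2 q⟩)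
            (mem_sup_right (hKn.conj_mem' k hk q))
        have h2 := hHn.conj_mem ⟨_, hHC h1⟩ h1 ⟨c, hcC⟩
        have h3 : c * (q⁻¹ * v * q) * c⁻¹ ∈ W ⊔ K := h2
        rwa [hc, show b * q * (q⁻¹ * v * q) * (b * q)⁻¹ = b * v * b⁻¹ by group, hbi] at h3
      have hyH : y⁻¹ * (b * y * b) ∈ W ⊔ K := by
        have hby' : b * y * b ∈ C := h.byb ▸ mul_mem h.yC h.aC
        refine (mul_mem_iff_of_index_two hH2 (a := ⟨y⁻¹, inv_mem h.yC⟩) (b := ⟨_, hby'⟩)).2 ?_
        show y⁻¹ ∈ W ⊔ K ↔ b * y * b ∈ W ⊔ K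
        rw [inv_mem_iff]
        refine ⟨hbH y, fun hh => ?_⟩
        have := hbH _ hh
        rwa [show b * (b * y * b) * b = (b * b) * y * (b * b) by group, h.bb, one_mul, mul_one] at this
      rw [h.byb, inv_mul_cancel_left] at hyH
      exact haWK hyH
    rw [hsplit]
    calc _ ≤ 4 * 2 := Nat.mul_le_mul hW4 (hCQ Q)
      _ = 8 := rfl
  have hV4 : Nat.card ↥(U ⊓ K) ≤ 4 := h.cardU ▸ card_le_of_le inf_le_left
  obtain ⟨he8, hNK2⟩ := bad_section hS hKc hV hV4 hNQ hsq he hbad
  have hUK : U ≤ K := by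
    by_contra hno
    have h1 := section_le hKc hV hsq (Q := Q)
    have h2 := H64.RankFour.card_mul_relIndex (inf_le_left : U ⊓ K ≤ U)
    have h3 : (U ⊓ K).relIndex U ≠ 1 := fun e => hno fun v hv => (relIndex_eq_one.1 e hv).2
    have h4 : (U ⊓ K).relIndex U ≠ 0 := Subgroup.index_ne_zero_of_finite
    have : 2 ≤ (U ⊓ K).relIndex U := by omega
    rw [h.cardU] at h2
    rw [he8] at h1
    nlinarith
  exact h.no_section hS hKn hKC hKc h16 hdK hsurj hdlK haK hV hV4 hUK he8
    (fun x hx x' hx' => hNK2 (H64.RankFour.comm_mem hn hsq hx hx')) (fun x hx => hNK2 (hsq x hx)) havoid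

end PairData

/-- If a normal four-group is not in `A`, all elementary sections have order at most sixteen. -/
theorem caseTwo (hS : IsPGroup 2 S) {A U : Subgroup S} [U.Normal] (hA2 : ∀ x ∈ A, x * x = 1)
    (hAc : ∀ x ∈ A, ∀ y ∈ A, x * y = y * x) (hA8 : Nat.card A = 8) (hA : centralizer (A : Set S) = A)
    (hU4 : Nat.card U = 4) (hU2 : ∀ x ∈ U, x * x = 1) (hUA : ¬ U ≤ A) : H64.RankFour.SquareBound S := by
  classical
  have : Fact (Nat.Prime 2) := ⟨Nat.prime_two⟩
  obtain ⟨z, u, hzU, hu, hzc, hz1, hu1, huz, hall, hmove⟩ := four_group hS hU4 hU2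
  have hzA : z ∈ A := hA ▸ mem_centralizer_iff.2 fun x _ => mem_center_iff.1 hzc x
  have huA : u ∉ A := by
    intro hh
    refine hUA fun x hx => ?_
    rcases hall x hx with rfl | rfl | rfl | rfl
    exacts [one_mem A, hzA, hh, mul_mem hh hzA]
  set C := centralizer (U : Set S) with hCdef
  have hCn : C.Normal := by rw [hCdef]; infer_instance
  have hcen : ∀ x ∈ C, ∀ v ∈ U, x * v = v * x := fun x hx v hv => ((mem_centralizer_iff.1 hx) v hv).symm
  obtain ⟨b, hbA, hbC⟩ : ∃ b ∈ A, b ∉ C := by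
    by_contra hh; push Not at hh
    refine hUA fun v hv => hA ▸ mem_centralizer_iff.2 fun x hx => hcen x (hh x hx) v hv
  have hbb := hA2 b hbA
  have hbi : b⁻¹ = b := inv_eq_of_mul_eq_one_right hbb
  have hC2 : C.index = 2 := by
    have h1 : C.index ≠ 1 := fun e => hbC (index_eq_one.1 e ▸ mem_top b)
    have h0 : C.index ≠ 0 := Subgroup.index_ne_zero_of_finite
    have : C.index ≤ 2 := index_centralizer_le hS hU4 hU2
    omega
  have hcom : ∀ v ∈ U, ∀ x, x * v * x⁻¹ ∈ U := fun v hv x => Subgroup.Normal.conj_mem inferInstance v hv x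
  have hbu : b * u * b = u * z := by
    rcases hmove b with hh | hh
    · refine absurd ?_ hbC
      rw [hCdef, mem_centralizer_iff]
      intro x hx
      have h1 : u * b = b * u := (mul_inv_eq_iff_eq_mul.1 hh).symm
      have h2 : z * b = b * z := (mem_center_iff.1 hzc b).symm
      rcases hall x hx with rfl | rfl | rfl | rfl
      · simp
      · exact h2
      · exact h1
      · rw [mul_assoc, h2, ← mul_assoc, h1, mul_assoc]
    · rwa [hbi] at hh
  have hzCm : z ∈ C := by
    rw [hCdef, mem_centralizer_iff]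
    exact fun v _ => mem_center_iff.1 hzc v
  set A₀ := A ⊓ C
  have hA₀4 : Nat.card A₀ = 4 := by
    have h1 := H64.RankFour.card_inf_mul_relIndex A C
    have h2 : C.relIndex A ≤ 2 :=
      (relIndex_le_of_le_right (le_top : A ≤ ⊤) Subgroup.index_ne_zero_of_finite).trans
        (by rw [relIndex_top_right, hC2])
    have h3 : C.relIndex A ≠ 1 := fun e => hbC (relIndex_eq_one.1 e hbA)
    have h4 : C.relIndex A ≠ 0 := Subgroup.index_ne_zero_of_finite
    rw [hA8, show C.relIndex A = 2 by omega] at h1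
    show Nat.card ↥(A ⊓ C) = 4
    omega
  obtain ⟨a, ha, haz⟩ : ∃ a ∈ A₀, a ∉ zpowers z := by
    by_contra hh; push Not at hh
    have := card_le_of_le (show A₀ ≤ zpowers z from hh)
    rw [hA₀4, Nat.card_zpowers] at this
    have := orderOf_le_of_pow_eq_one two_pos (show z ^ 2 = 1 by rw [pow_two]; exact hU2 z hzU)
    omega
  have haa := hA2 a ha.1
  have hai : a⁻¹ = a := inv_eq_of_mul_eq_one_right haa
  have haU : a ∉ U := by
    intro hh
    rcases hall a hh with rfl | rfl | rfl | rfl
    · exact haz (one_mem _)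
    · exact haz (mem_zpowers _)
    · exact huA ha.1
    · exact huA (by have := mul_mem ha.1 hzA; rwa [mul_assoc, hU2 z hzU, mul_one] at this)
  have hab : b * a * b = a := by rw [hAc b hbA a ha.1, mul_assoc, hbb, mul_one]
  have hA₀mem : ∀ x ∈ A₀, ∃ v ∈ U, (v = 1 ∨ v = z) ∧ (x = v ∨ x = v * a) := by
    have hn : (zpowers z).Normal := PGroups.normal_of_le_center (zpowers_le.2 hzc)
    have hle : zpowers z ⊔ zpowers a = A₀ := by
      refine eq_of_le_of_card_ge (sup_le (zpowers_le.2 ⟨hzA, hzCm⟩) (zpowers_le.2 ha)) ?_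
      have h1 := H64.RankFour.card_mul_relIndex (le_sup_left : zpowers z ≤ zpowers z ⊔ zpowers a)
      have h2 : (zpowers z).relIndex (zpowers z ⊔ zpowers a) ≠ 1 := fun e =>
        haz (relIndex_eq_one.1 e (mem_sup_right (mem_zpowers a)))
      have h3 : (zpowers z).relIndex (zpowers z ⊔ zpowers a) ≠ 0 := Subgroup.index_ne_zero_of_finite
      have : 2 ≤ (zpowers z).relIndex (zpowers z ⊔ zpowers a) := by omega
      have : orderOf z = 2 := orderOf_eq_prime (by rw [pow_two]; exact hU2 z hzU) hz1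
      rw [Nat.card_zpowers, this] at h1
      rw [hA₀4]
      omega
    intro x hx
    rw [← hle] at hx
    have hx' : x ∈ ((zpowers z ⊔ zpowers a : Subgroup S) : Set S) := hx
    rw [Subgroup.normal_mul] at hx'
    obtain ⟨v, hv, _, ⟨n, rfl⟩, rfl⟩ := hx'
    have hv' : v = 1 ∨ v = z := by
      obtain ⟨k, rfl⟩ := hv
      exact zpow_eq_one_or_self (hU2 z hzU) k
    refine ⟨v, ?_, hv', ?_⟩
    · rcases hv' with rfl | rfl
      exacts [one_mem U, hzU]
    rcases zpow_eq_one_or_self haa n with e | e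
    · exact Or.inl (by simp only [e, mul_one])
    · exact Or.inr (by simp only [e])
  have hfix : ∀ x ∈ C, x * a = a * x → b * x * b = x → x ∈ A₀ := by
    intro x hx hxa hxb
    refine ⟨?_, hx⟩
    show x ∈ A
    rw [← hA, mem_centralizer_iff]
    intro v hv
    have hxb' : x * b = b * x := by
      calc x * b = b * x * b * b := by rw [hxb]
        _ = b * x := by rw [mul_assoc, hbb, mul_one]
    have key : ∀ v ∈ A₀, v * x = x * v := by
      intro v hv
      obtain ⟨t, -, ht, e⟩ := hA₀mem v hv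
      have htx : Commute t x := by
        rcases ht with rfl | rfl
        exacts [Commute.one_left x, (mem_center_iff.1 hzc x).symm]
      rcases e with rfl | rfl
      exacts [htx, htx.mul_left hxa.symm]
    by_cases hvC : v ∈ C
    · exact key v ⟨hv, hvC⟩
    · have h1 : v * b ∈ C := (mul_mem_iff_of_index_two hC2).2
        ⟨fun hh => absurd hh hvC, fun hh => absurd hh hbC⟩
      have h2 : Commute (v * b) x := key _ ⟨mul_mem hv hbA, h1⟩
      have h3 := h2.mul_left hxb'.symm
      rwa [mul_assoc, hbb, mul_one] at h3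
  by_cases hCb : centralizer ({b} : Set S) = A
  · exact squareBound_of_card_centralizer hS A hA2 hA8 hbA (fun e => hbC (e ▸ one_mem C)) hCb
  set B := U ⊔ zpowers a
  have hBmem : ∀ x ∈ B, ∃ v ∈ U, x = v ∨ x = v * a := by
    intro x hx
    have hx' : x ∈ ((U ⊔ zpowers a : Subgroup S) : Set S) := hx
    rw [Subgroup.normal_mul] at hx'
    obtain ⟨v, hv, _, ⟨n, rfl⟩, rfl⟩ := hx'
    refine ⟨v, hv, ?_⟩
    rcases zpow_eq_one_or_self haa n with e | e
    · exact Or.inl (by simp only [e, mul_one])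
    · exact Or.inr (by simp only [e])
  have hUB : U ≤ B := le_sup_left
  have haB : a ∈ B := mem_sup_right (mem_zpowers a)
  set X := C ⊓ centralizer ({a} : Set S)
  have hUC : U ≤ C := by
    intro v hv
    rw [hCdef, mem_centralizer_iff]
    intro w hw
    have huz' : Commute u z := mem_center_iff.1 hzc u
    have hvu : Commute v u := by
      rcases hall v hv with rfl | rfl | rfl | rfl
      exacts [Commute.one_left u, huz'.symm, Commute.refl v, (Commute.refl u).mul_left huz'.symm]
    have hvz : Commute v z := mem_center_iff.1 hzc v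
    rcases hall w hw with rfl | rfl | rfl | rfl
    exacts [((Commute.one_right v).symm).eq, hvz.symm.eq, hvu.symm.eq, (hvu.mul_right hvz).symm.eq]
  have hua : ∀ v ∈ U, a * v = v * a := fun v hv => hcen a ha.2 v hv
  have hBX : B ≤ X := sup_le (fun v hv => ⟨hUC hv, mem_centralizer_singleton_iff.2 (hua v hv).symm⟩)
    (zpowers_le.2 ⟨ha.2, mem_centralizer_singleton_iff.2 rfl⟩)
  have hBcen : ∀ v ∈ B, ∀ x ∈ X, x * v = v * x := by
    intro v hv x hx
    obtain ⟨w, hw, rfl | rfl⟩ := hBmem v hv
    · exact hcen x hx.1 v hw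
    · exact (show Commute x w from hcen x hx.1 w hw).mul_right (mem_centralizer_singleton_iff.1 hx.2)
  have hB2 : ∀ v ∈ B, v * v = 1 := by
    intro v hv
    obtain ⟨w, hw, rfl | rfl⟩ := hBmem v hv
    · exact hU2 v hw
    · calc w * a * (w * a) = w * (a * w) * a := by group
        _ = w * w * (a * a) := by rw [hua w hw]; group
        _ = 1 := by rw [hU2 w hw, haa, one_mul]
  by_cases hXB : X ≤ B
  · have hB8 : Nat.card B = 8 := by
      rw [← H64.RankFour.card_mul_relIndex hUB, hU4]
      have h1 : U.relIndex B ≠ 1 := fun e => haU (relIndex_eq_one.1 e haB)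
      have h0 : U.relIndex B ≠ 0 := Subgroup.index_ne_zero_of_finite
      have h2 : U.relIndex B ≤ 2 := by
        rw [show B = zpowers a ⊔ U from sup_comm .., relIndex_sup_right]
        refine (Nat.le_of_dvd Nat.card_pos (index_dvd_card _)).trans ?_
        rw [Nat.card_zpowers]
        exact orderOf_le_of_pow_eq_one two_pos (by rw [pow_two, haa])
      omega
    refine caseOne hS (A := B) (U := U) hB2 (fun x hx v hv => hBcen v hv x (hBX hx)) hB8 ?_ hUB hU4
    refine le_antisymm (fun x hx => hXB ⟨?_, ?_⟩) fun x hx => ?_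
    · show x ∈ C
      rw [hCdef, mem_centralizer_iff]
      exact fun v hv => (mem_centralizer_iff.1 hx) v (hUB hv)
    · exact mem_centralizer_singleton_iff.2 ((mem_centralizer_iff.1 hx) a haB).symm
    · exact mem_centralizer_iff.2 fun v hv => (hBcen v hv x (hBX hx)).symm
  -- the element moving `a`
  obtain ⟨m, hm, hmb, hma⟩ : ∃ m ∈ C, b * m * b = m ∧ m * a * m⁻¹ = a * z := by
    set M := C ⊓ centralizer ({b} : Set S)
    have hA₀M : A₀ ≤ M := fun x hx => ⟨hx.2, mem_centralizer_singleton_iff.2 (hAc x hx.1 b hbA)⟩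
    have hlt : A₀ < M := by
      refine lt_of_le_of_ne hA₀M fun e => hCb ?_
      refine le_antisymm (fun x hx => ?_) fun x hx => mem_centralizer_singleton_iff.2 (hAc x hx b hbA)
      by_cases hxC : x ∈ C
      · exact (e.ge ⟨hxC, hx⟩).1
      · have h1 : x * b ∈ C := (mul_mem_iff_of_index_two hC2).2
          ⟨fun hh => absurd hh hxC, fun hh => absurd hh hbC⟩
        have h2 : x * b ∈ A₀ := e.ge ⟨h1, mul_mem hx (mem_centralizer_singleton_iff.2 rfl)⟩
        have := mul_mem h2.1 hbA
        rwa [mul_assoc, hbb, mul_one] at this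
    obtain ⟨m, hm, hmA, hmn⟩ := PGroups.exists_mem_notMem_normalizer hS hlt
    have hmb : b * m * b = m := by
      rw [← mem_centralizer_singleton_iff.1 hm.2, mul_assoc, hbb, mul_one]
    refine ⟨m, hm.1, hmb, ?_⟩
    obtain ⟨t, -, ht, e⟩ := hA₀mem _ ((mem_normalizer_iff.1 hmn a).1 ha)
    have htc : t ∈ center S := by
      rcases ht with rfl | rfl
      exacts [one_mem _, hzc]
    rcases e with e | e
    · exfalso
      have h2 : a = t := by
        calc a = m⁻¹ * (m * a * m⁻¹) * m := by group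
          _ = t := by rw [e, mem_center_iff.1 htc, mul_assoc, inv_mul_cancel, mul_one]
      rcases ht with rfl | rfl
      exacts [haz (h2 ▸ one_mem _), haz (h2 ▸ mem_zpowers t)]
    · rcases ht with rfl | rfl
      · rw [one_mul] at e
        exact absurd (hfix m hm.1 (mul_inv_eq_iff_eq_mul.1 e) hmb) hmA
      · rw [e, mem_center_iff.1 hzc a]
  -- the element `y`
  set R := X ⊔ zpowers b
  have hbconj : ∀ g, b * g * b⁻¹ = b * g * b := fun g => by rw [hbi]
  have hbX : ∀ x ∈ X, b * x * b ∈ X := by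
    intro x hx
    refine ⟨?_, mem_centralizer_singleton_iff.2 ?_⟩
    · have := hCn.conj_mem x hx.1 b
      rwa [hbi] at this
    · calc b * x * b * a = b * x * b * (b * a * b) := by rw [hab]
        _ = b * x * (b * b) * a * b := by group
        _ = b * (x * a) * b := by rw [hbb]; group
        _ = b * a * (b * b) * x * b := by rw [mem_centralizer_singleton_iff.1 hx.2, hbb]; group
        _ = b * a * b * (b * x * b) := by group
        _ = a * (b * x * b) := by rw [hab]
  have hbB : ∀ v ∈ B, b * v * b ∈ B := by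
    intro v hv
    obtain ⟨w, hw, rfl | rfl⟩ := hBmem v hv
    · have := hcom v hw b
      rw [hbi] at this
      exact hUB this
    · rw [show b * (w * a) * b = b * w * b * ((b * b)⁻¹ * (b * a * b)) by group, hbb, hab, inv_one, one_mul]
      have := hcom w hw b
      rw [hbi] at this
      exact mul_mem (hUB this) haB
  have hnormal : ∀ F : Subgroup S, (∀ x ∈ X, ∀ v ∈ F, x * v * x⁻¹ ∈ F) → (∀ v ∈ F, b * v * b ∈ F) →
      ∀ r ∈ R, ∀ v ∈ F, r * v * r⁻¹ ∈ F := by
    intro F h1 h2 r hr
    have hle : R ≤ normalizer (F : Set S) := by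
      refine sup_le (fun x hx => mem_normalizer_iff.2 fun v => ⟨h1 x hx v, fun hh => ?_⟩)
        (zpowers_le.2 (mem_normalizer_iff.2 fun v => ?_))
      · have := h1 _ (inv_mem hx) _ hh
        rwa [show x⁻¹ * (x * v * x⁻¹) * x⁻¹⁻¹ = v by group] at this
      · rw [hbconj]
        refine ⟨h2 v, fun hh => ?_⟩
        have := h2 _ hh
        rwa [show b * (b * v * b) * b = (b * b) * v * (b * b) by group, hbb, one_mul, mul_one] at this
    exact fun v hv => (mem_normalizer_iff.1 (hle hr) v).1 hv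
  have hBn := hnormal B (fun x hx v hv => by rw [hBcen v hv x hx, mul_inv_cancel_right]; exact hv) hbB
  have hXn := hnormal X (fun x hx v hv => mul_mem (mul_mem hx hv) (inv_mem hx)) hbX
  obtain ⟨y₀, hy₀X, hy₀B, hy₀2, hy₀R⟩ :=
    H64.RankFour.exists_central_mod hS R B X le_sup_left hBn hXn hXB
  have hbR : b ∈ R := mem_sup_right (mem_zpowers b)
  -- elements of `X` fixed by `b` up to `z`
  have hfixX : ∀ x ∈ X, b * x * b = x ∨ b * x * b = x * z → x ∈ B := by
    intro x hx hh
    have hin : ∀ x' ∈ X, b * x' * b = x' → x' ∈ B := by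
      intro x' hx' hh'
      obtain ⟨t, htU, -, e⟩ := hA₀mem x' (hfix x' hx'.1 (mem_centralizer_singleton_iff.1 hx'.2) hh')
      rcases e with rfl | rfl
      exacts [hUB htU, mul_mem (hUB htU) haB]
    rcases hh with hh | hh
    · exact hin x hx hh
    · have h1 : x * u ∈ B := by
        refine hin _ (mul_mem hx (hBX (hUB hu))) ?_
        calc b * (x * u) * b = b * x * b * ((b * b)⁻¹ * (b * u * b)) := by group
          _ = x * z * (u * z) := by rw [hh, hbu, hbb, inv_one, one_mul]
          _ = x * (z * u) * z := by group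
          _ = x * (u * z) * z := by rw [mem_center_iff.1 hzc u]
          _ = x * u * (z * z) := by group
          _ = x * u := by rw [hU2 z hzU, mul_one]
      exact (Subgroup.mul_mem_cancel_right B (hUB hu)).1 h1
  -- involutions of `B` fixed by `b`
  have hBfix : ∀ v ∈ B, b * v * b = v → v = 1 ∨ v = z ∨ v = a ∨ v = z * a := by
    intro v hv hh
    obtain ⟨t, -, ht, e⟩ := hA₀mem v (hfix v (hBX hv).1 (mem_centralizer_singleton_iff.1 (hBX hv).2) hh)
    rcases ht with rfl | rfl <;> rcases e with rfl | rfl <;> simp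
  have hinvol : ∀ {x v : S}, x ∈ X → b * x * b = x * v → b * v * b = v⁻¹ := by
    intro x v _ hh
    calc b * v * b = b * (x⁻¹ * (x * v)) * b := by group
      _ = b * (x⁻¹ * (b * x * b)) * b := by rw [hh]
      _ = b * x⁻¹ * b * x * (b * b) := by group
      _ = (b * x * b)⁻¹ * x := by rw [hbb]; simp only [mul_inv_rev, hbi]; group
      _ = v⁻¹ := by rw [hh]; group
  obtain ⟨y, hyX, hyB, hy2B, hyR, hby⟩ : ∃ y ∈ X, y ∉ B ∧ y * y ∈ B ∧
      (∀ r ∈ R, y⁻¹ * (r * y * r⁻¹) ∈ B) ∧ b * y * b = y * a := by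
    obtain ⟨c, hc⟩ : ∃ c, c = y₀⁻¹ * (b * y₀ * b) := ⟨_, rfl⟩
    have hcB : c ∈ B := by
      have := hy₀R b hbR
      rwa [hbi, ← hc] at this
    have hby₀ : b * y₀ * b = y₀ * c := by rw [hc]; group
    have hcfix : b * c * b = c := (hinvol hy₀X hby₀).trans (inv_eq_of_mul_eq_one_right (hB2 c hcB))
    rcases hBfix c hcB hcfix with rfl | rfl | rfl | rfl
    · exact absurd (hfixX y₀ hy₀X (Or.inl (by rw [hby₀, mul_one]))) hy₀B
    · exact absurd (hfixX y₀ hy₀X (Or.inr hby₀)) hy₀B
    · exact ⟨y₀, hy₀X, hy₀B, hy₀2, hy₀R, hby₀⟩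
    · have huX : u ∈ X := hBX (hUB hu)
      have hcu : Commute y₀ u := hBcen u (hUB hu) y₀ hy₀X
      refine ⟨y₀ * u, mul_mem hy₀X huX, fun hh => hy₀B ((Subgroup.mul_mem_cancel_right B (hUB hu)).1 hh),
        ?_, fun r hr => ?_, ?_⟩
      · rw [show y₀ * u * (y₀ * u) = y₀ * (u * y₀) * u by group, ← hcu.eq,
          show y₀ * (y₀ * u) * u = y₀ * y₀ * (u * u) by group, hU2 u hu, mul_one]
        exact hy₀2
      · rw [show (y₀ * u)⁻¹ * (r * (y₀ * u) * r⁻¹) = u⁻¹ * (y₀⁻¹ * (r * y₀ * r⁻¹)) * (r * u * r⁻¹) by group]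
        exact mul_mem (mul_mem (inv_mem (hUB hu)) (hy₀R r hr)) (hUB (hcom u hu r))
      · calc b * (y₀ * u) * b = b * y₀ * b * ((b * b)⁻¹ * (b * u * b)) := by group
          _ = y₀ * (z * a) * (u * z) := by rw [hby₀, hbu, hbb, inv_one, one_mul]
          _ = y₀ * z * (a * u) * z := by group
          _ = y₀ * z * (u * (a * z)) := by rw [hua u hu]; group
          _ = y₀ * (z * u) * (z * a) := by rw [mem_center_iff.1 hzc a]; group
          _ = y₀ * u * (z * z) * a := by rw [← mem_center_iff.1 hzc u]; group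
          _ = y₀ * u * a := by rw [hU2 z hzU, mul_one]
  have hya : a * y = y * a := (mem_centralizer_singleton_iff.1 hyX.2).symm
  have hy2fix : b * (y * y) * b = y * y := by
    calc b * (y * y) * b = b * y * (b * b) * y * b := by rw [hbb]; group
      _ = b * y * b * (b * y * b) := by group
      _ = y * (a * y) * a := by rw [hby]; group
      _ = y * y * (a * a) := by rw [hya]; group
      _ = y * y := by rw [haa, mul_one]
  have hy2 : y * y = 1 ∨ y * y = z := by
    obtain ⟨y', hy'⟩ : ∃ y', y' = m * y * m⁻¹ := ⟨_, rfl⟩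
    have hy'C : y' ∈ C := hy' ▸ hCn.conj_mem y hyX.1 m
    have hy'a : y' * (a * z) = a * z * y' := by
      rw [← hma, hy']
      calc m * y * m⁻¹ * (m * a * m⁻¹) = m * (y * a) * m⁻¹ := by group
        _ = m * (a * y) * m⁻¹ := by rw [hya]
        _ = _ := by group
    have hy'X : y' ∈ X := ⟨hy'C, mem_centralizer_singleton_iff.2 (mul_right_cancel (b := z) (by
      rw [mul_assoc, hy'a, mul_assoc a z, ← mem_center_iff.1 hzc y', mul_assoc]))⟩
    have hmb' : m⁻¹ * b = b * m⁻¹ := by
      have h1 : Commute m b := by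
        show m * b = b * m
        calc m * b = b * m * b * b := by rw [hmb]
          _ = b * m := by rw [mul_assoc, hbb, mul_one]
      exact h1.inv_left.eq
    have hby' : b * y' * b = y' * (a * z) := by
      rw [hy', ← hma]
      calc b * (m * y * m⁻¹) * b = b * m * b * (b⁻¹ * y) * (m⁻¹ * b) := by group
        _ = m * (b⁻¹ * y) * (b * m⁻¹) := by rw [hmb, hmb']
        _ = m * (b * y * b) * m⁻¹ := by rw [hbi]; group
        _ = _ := by rw [hby]; group
    obtain ⟨v, hv⟩ : ∃ v, v = y⁻¹ * y' := ⟨_, rfl⟩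
    have hvX : v ∈ X := hv ▸ mul_mem (inv_mem hyX) hy'X
    have hbv : b * v * b = v * z := by
      calc b * v * b = (b * y * b)⁻¹ * (b * y' * b) := by
            rw [hv]; simp only [mul_inv_rev, hbi]
            calc b * (y⁻¹ * y') * b = b * y⁻¹ * (b * b) * y' * b := by rw [hbb]; group
              _ = _ := by group
        _ = a * (v * a) * z := by rw [hby, hby', hv]; simp only [mul_inv_rev, hai]; group
        _ = a * a * v * z := by rw [mem_centralizer_singleton_iff.1 hvX.2]; group
        _ = v * z := by rw [haa, one_mul]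
    have hvB : v ∈ B := hfixX v hvX (Or.inr hbv)
    have h2 : m * (y * y) * m⁻¹ = y * y := by
      calc m * (y * y) * m⁻¹ = y * v * (y * v) := by rw [hv, hy']; group
        _ = y * (v * y) * v := by group
        _ = y * (y * v) * v := by rw [hBcen v hvB y hyX]
        _ = y * y * (v * v) := by group
        _ = y * y := by rw [hB2 v hvB, mul_one]
    rcases hBfix _ hy2B hy2fix with e | e | e | e
    · exact Or.inl e
    · exact Or.inr e
    · rw [e, hma, mul_eq_left] at h2
      exact absurd h2 hz1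
    · rw [e, show m * (z * a) * m⁻¹ = (m * z) * a * m⁻¹ by group, mem_center_iff.1 hzc m,
        show z * m * a * m⁻¹ = z * (m * a * m⁻¹) by group, hma, mul_right_inj, mul_eq_left] at h2
      exact absurd h2 hz1
  have hinX : ∀ x ∈ X, ∃ v ∈ U, x = v ∨ x = v * a ∨ x = v * y ∨ x = v * a * y := by
    set Y := B ⊔ zpowers y
    have hBY : B ≤ Y := le_sup_left
    have hyY : y ∈ Y := mem_sup_right (mem_zpowers y)
    have hYX : Y ≤ X := sup_le hBX (zpowers_le.2 hyX)
    have hyn : zpowers y ≤ normalizer (B : Set S) := zpowers_le.2 (mem_normalizer_iff.2 fun v =>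
      ⟨fun hh => by rw [hBcen v hh y hyX, mul_inv_cancel_right]; exact hh, fun hh => by
        have := hBcen _ hh y⁻¹ (inv_mem hyX)
        rw [show v = y⁻¹ * (y * v * y⁻¹) * y by group, this]
        simpa [mul_assoc] using hh⟩)
    have hYmem : ∀ x ∈ Y, ∃ v ∈ B, x = v ∨ x = v * y := by
      intro x hx
      have hx' : x ∈ ((B ⊔ zpowers y : Subgroup S) : Set S) := hx
      rw [Subgroup.coe_mul_of_right_le_normalizer_left B _ hyn] at hx'
      obtain ⟨v, hv, _, ⟨n, rfl⟩, rfl⟩ := hx'
      rcases Int.even_or_odd' n with ⟨j, rfl | rfl⟩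
      · refine ⟨v * y ^ (2 * j), mul_mem hv ?_, Or.inl rfl⟩
        rw [zpow_mul, zpow_two]; exact zpow_mem hy2B j
      · refine ⟨v * y ^ (2 * j), mul_mem hv ?_, Or.inr ?_⟩
        · rw [zpow_mul, zpow_two]; exact zpow_mem hy2B j
        · show v * y ^ (2 * j + 1) = v * y ^ (2 * j) * y
          rw [zpow_add_one]; group
    have hXY : X ≤ Y := by
      by_contra hXY
      have hYn := hnormal Y (fun x hx v hv => by
        obtain ⟨w, hw, rfl | rfl⟩ := hYmem v hv
        · rw [hBcen v hw x hx, mul_inv_cancel_right]; exact hBY hw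
        · rw [show x * (w * y) * x⁻¹ = x * w * x⁻¹ * (y * (y⁻¹ * (x * y * x⁻¹))) by group, hBcen w hw x hx,
            mul_inv_cancel_right]
          exact mul_mem (hBY hw) (mul_mem hyY (hBY (hyR x (mem_sup_left hx))))) (fun v hv => by
        obtain ⟨w, hw, rfl | rfl⟩ := hYmem v hv
        · exact hBY (hbB v hw)
        · rw [show b * (w * y) * b = b * w * b * ((b * b)⁻¹ * (b * y * b)) by group, hbb, hby, inv_one, one_mul]
          exact mul_mem (hBY (hbB w hw)) (mul_mem hyY (hBY haB)))
      obtain ⟨x, hxX, hxY, -, hxR⟩ := H64.RankFour.exists_central_mod hS R Y X le_sup_left hYn hXn hXY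
      obtain ⟨d, hd⟩ : ∃ d, d = x⁻¹ * (b * x * b) := ⟨_, rfl⟩
      have hdY : d ∈ Y := by
        have := hxR b hbR
        rwa [hbi, ← hd] at this
      have hbx : b * x * b = x * d := by rw [hd]; group
      obtain ⟨w, hw, hdw | hdw⟩ := hYmem d hdY
      · subst hdw
        have hfd : b * d * b = d := (hinvol hxX hbx).trans (inv_eq_of_mul_eq_one_right (hB2 d hw))
        rcases hBfix d hw hfd with e | e | e | e <;> rw [e] at hbx
        · exact hxY (hBY (hfixX x hxX (Or.inl (by rw [hbx, mul_one]))))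
        · exact hxY (hBY (hfixX x hxX (Or.inr hbx)))
        · have h1 : x * y ∈ B := hfixX _ (mul_mem hxX hyX) (Or.inl (by
            rw [show b * (x * y) * b = b * x * b * ((b * b)⁻¹ * (b * y * b)) by group, hbb, hbx, hby, inv_one,
              one_mul, ← hya, mul_assoc, ← mul_assoc a a, haa, one_mul]))
          exact hxY ((Subgroup.mul_mem_cancel_right Y hyY).1 (hBY h1))
        · have h1 : x * y ∈ B := hfixX _ (mul_mem hxX hyX) (Or.inr (by
            rw [show b * (x * y) * b = b * x * b * ((b * b)⁻¹ * (b * y * b)) by group, hbb, hbx, hby, inv_one,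
              one_mul, ← hya, show x * (z * a) * (a * y) = x * (z * (a * a) * y) by group, haa, mul_one,
              ← mem_center_iff.1 hzc y, mul_assoc]))
          exact hxY ((Subgroup.mul_mem_cancel_right Y hyY).1 (hBY h1))
      · -- `d = w y` would make `a` a power of `z`
        refine haz ?_
        have h1 := hinvol hxX hbx
        rw [hdw, show b * (w * y) * b = b * w * b * ((b * b)⁻¹ * (b * y * b)) by group, hbb, hby, inv_one,
          one_mul, mul_inv_rev, inv_eq_of_mul_eq_one_right (hB2 w hw)] at h1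
        have h3 : w * (b * w * b) = (y * y)⁻¹ * a := by
          have hwb : b * w * b ∈ B := hbB w hw
          have hcy : Commute y (b * w * b) := hBcen _ hwb y hyX
          have hwy : Commute y⁻¹ w := (show Commute y w from hBcen w hw y hyX).inv_left
          calc w * (b * w * b) = w * (b * w * b * (y * a)) * (a⁻¹ * y⁻¹) := by group
            _ = w * (y⁻¹ * w) * (a⁻¹ * y⁻¹) := by rw [h1]
            _ = w * w * (y⁻¹ * (a⁻¹ * y⁻¹)) := by rw [hwy.eq]; group
            _ = y⁻¹ * (y⁻¹ * a⁻¹) := by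
              rw [hB2 w hw, one_mul, ((show Commute a y from hya).inv_inv).eq]
            _ = _ := by rw [hai]; group
        have h4 : w * (b * w * b) ∈ zpowers z := by
          obtain ⟨v, hv, hwv⟩ := hBmem w hw
          have h5 : v * (b * v * b) ∈ zpowers z := by
            rcases hall v hv with rfl | rfl | rfl | rfl
            · rw [mul_one, hbb, mul_one]; exact one_mem _
            · rw [mem_center_iff.1 hzc b, mul_assoc v b b, hbb, mul_one, hU2 v hzU]; exact one_mem _
            · rw [hbu, ← mul_assoc, hU2 v hu, one_mul]; exact mem_zpowers z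
            · rw [show b * (u * z) * b = b * u * (z * b) by group, ← mem_center_iff.1 hzc b,
                show b * u * (b * z) = b * u * b * z by group, hbu, show u * z * (u * z * z) = u * z * u * (z * z) by group,
                hU2 z hzU, mul_one, mul_assoc, ← mem_center_iff.1 hzc u, ← mul_assoc, hU2 u hu, one_mul]
              exact mem_zpowers z
          rcases hwv with rfl | rfl
          · exact h5
          · rw [show b * (v * a) * b = b * v * b * ((b * b)⁻¹ * (b * a * b)) by group, hbb, hab, inv_one, one_mul,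
              show v * a * (b * v * b * a) = v * (a * (b * v * b)) * a by group]
            have : Commute a (b * v * b) := by
              have h6 := hcom v hv b
              rw [hbi] at h6
              exact hua _ h6
            rw [this.eq, show v * (b * v * b * a) * a = v * (b * v * b) * (a * a) by group, haa, mul_one]
            exact h5
        rw [h3] at h4
        have hy2z : y * y ∈ zpowers z := by
          rcases hy2 with e | e <;> rw [e]
          exacts [one_mem _, mem_zpowers z]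
        exact (Subgroup.mul_mem_cancel_left _ (inv_mem hy2z)).1 h4
    intro x hx
    obtain ⟨w, hw, e⟩ := hYmem x (hXY hx)
    obtain ⟨v, hv, e'⟩ := hBmem w hw
    refine ⟨v, hv, ?_⟩
    rcases e with rfl | rfl <;> rcases e' with rfl | rfl <;> simp
  exact PairData.squareBound hS
    { indexC := hC2, normalC := hCn, central := hcen, normalU := inferInstance, cardU := hU4, sqU := hU2,
      zU := hzU, zC := hzc, aC := ha.2, aa := haa, aU := haU, bC := hbC, bb := hbb, bab := hab, yC := hyX.1,
      ay := hya, byb := hby, y2 := hy2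
      inX := fun x hx hxa => hinX x ⟨hx, mem_centralizer_singleton_iff.2 hxa⟩
      fix := fun x hx hxa hxb => hA₀mem x (hfix x hx hxa hxb)
      move := ⟨m, hm, hma⟩, z1 := hz1, uC := hUC }

end Cfsg.Agent.H32.Harada
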