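import Cfsg.Agent.H32.Harada.Main

/-!
A 2-group with a subgroup `Q₈ ∗ Q₈` containing its own centralizer.

Of the two subgroups `{(x, f x)}` for two bijections `f` of the factors differing by a 3-cycle, one is
self-centralizing, as otherwise an element of order three would be induced on a factor.
-/

set_option autoImplicit false
set_option maxRecDepth 10000

namespace Cfsg.Agent.H32.Harada

open Subgroup QuaternionGroup

/-- The central involution of the quaternion group. -/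
abbrev qc : QuaternionGroup 2 := a 2

/-- The two generators. -/
abbrev qi : QuaternionGroup 2 := a 1

/-- The two generators. -/
abbrev qj : QuaternionGroup 2 := xa 0

/-- Equality up to `(c, c)`. -/
abbrev PairEqv (p q : QuaternionGroup 2 × QuaternionGroup 2) : Prop := p = q ∨ p = q * (qc, qc)

theorem qc_central : ∀ x : QuaternionGroup 2, qc * x = x * qc := by decide

theorem center_cases : ∀ x : QuaternionGroup 2, (∀ y, x * y = y * x) → x = 1 ∨ x = qc := by decide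

theorem conj_snd : ∀ x y : QuaternionGroup 2, x * y * x⁻¹ = y ∨ x * y * x⁻¹ = y * qc := by decide

theorem qgen : ∀ x : QuaternionGroup 2, x = 1 ∨ x = qi ∨ x = qi * qi ∨ x = qi * qi * qi ∨ x = qj ∨
    x = qj * qi ∨ x = qj * (qi * qi) ∨ x = qj * (qi * qi * qi) := by decide

/-- The automorphism permuting `i`, `j`, `k` cyclically. -/
def qrotFun : QuaternionGroup 2 → QuaternionGroup 2
  | .a i => if i = 0 then a 0 else if i = 1 then xa 0 else if i = 2 then a 2 else xa 2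
  | .xa i => if i = 0 then xa 3 else if i = 1 then a 3 else if i = 2 then xa 1 else a 1

theorem qrotFun_mul : ∀ x y, qrotFun (x * y) = qrotFun x * qrotFun y := by decide

theorem qrotFun_three : ∀ x, qrotFun (qrotFun (qrotFun x)) = x := by decide

/-- The automorphism as an isomorphism. -/
def qrot : QuaternionGroup 2 ≃* QuaternionGroup 2 where
  toFun := qrotFun
  invFun x := qrotFun (qrotFun x)
  left_inv x := qrotFun_three x
  right_inv x := qrotFun_three x
  map_mul' := qrotFun_mul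

theorem qrot_moves : ∀ x y : QuaternionGroup 2, y = qi ∨ y = qi * qc → x = qrotFun y ∨ x = qrotFun y * qc →
    x ≠ qi ∧ x ≠ qi * qc ∧ qrotFun x ≠ qi ∧ qrotFun x ≠ qi * qc := by decide

theorem mem_diag : ∀ p : QuaternionGroup 2 × QuaternionGroup 2, PairEqv (p * (qi, qi)) ((qi, qi) * p) →
    PairEqv (p * (qj, qj)) ((qj, qj) * p) → p.2 = p.1 ∨ p.2 = p.1 * qc := by decide

theorem image_cases : ∀ p : QuaternionGroup 2 × QuaternionGroup 2, PairEqv (p * p) (qc, 1) →
    PairEqv (p * (qi, qi)) ((qi, qi) * p) → ¬ PairEqv (p * (qj, qj)) ((qj, qj) * p) →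
    PairEqv p (qi, 1) ∨ PairEqv p (qi * qc, 1) ∨ PairEqv p (1, qi) ∨ PairEqv p (1, qi * qc) := by decide

theorem image_cases' : ∀ p : QuaternionGroup 2 × QuaternionGroup 2, PairEqv (p * p) (qc, 1) →
    PairEqv (p * (qj, qj)) ((qj, qj) * p) → ¬ PairEqv (p * (qi, qi)) ((qi, qi) * p) →
    PairEqv p (qj, 1) ∨ PairEqv p (qj * qc, 1) ∨ PairEqv p (1, qj) ∨ PairEqv p (1, qj * qc) := by decide

theorem anticommute : qi * qj ≠ qj * qi ∧ qi * qj = qj * qi * qc ∧ qi * qi = qc ∧ qj * qj = qc := by decide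

theorem coset_trans : ∀ r u v : QuaternionGroup 2, (u = r ∨ u = r * qc) → (v = u ∨ v = u * qc) →
    v = r ∨ v = r * qc := by decide

theorem coset_symm : ∀ r u : QuaternionGroup 2, (u = r ∨ u = r * qc) → r = u ∨ r = u * qc := by decide

theorem swap_eqv : ∀ x : QuaternionGroup 2,
    ((1, x * qc)⁻¹ * (x, x) : QuaternionGroup 2 × QuaternionGroup 2) = (x * qc, 1) * (qc, qc) := by decide

theorem rot_step : ∀ y y' : QuaternionGroup 2, y = qrotFun y' ∨ y = qrotFun y' * qc →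
    (qrotFun (qrotFun y) = qi ∨ qrotFun (qrotFun y) = qi * qc → y' = qi ∨ y' = qi * qc) ∧
    (qrotFun y = qi ∨ qrotFun y = qi * qc → qrotFun (qrotFun y') = qi ∨ qrotFun (qrotFun y') = qi * qc) ∧
    (y = qi ∨ y = qi * qc → qrotFun y' = qi ∨ qrotFun y' = qi * qc) := by decide

theorem rot_fixed : ∀ y : QuaternionGroup 2, PairEqv (qi, 1) (y, 1) →
    ¬ (qrotFun y = qi ∨ qrotFun y = qi * qc) ∧
      ¬ (qrotFun (qrotFun y) = qi ∨ qrotFun (qrotFun y) = qi * qc) := by decide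

variable {S : Type*} [Group S] [Finite S]

/-- The map onto a central product. -/
structure CentralMap (Q : Subgroup S) where
  toHom : QuaternionGroup 2 × QuaternionGroup 2 →* S
  range_eq : toHom.range = Q
  eq_iff : ∀ p q, toHom p = toHom q ↔ PairEqv p q

namespace CentralMap

variable {Q : Subgroup S}

/-- Composition with the 3-cycle on the second factor. -/
def rot (φ : CentralMap Q) : CentralMap Q where
  toHom := φ.toHom.comp ((MonoidHom.id _).prodMap qrot.toMonoidHom)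
  range_eq := by
    rw [MonoidHom.range_comp, MonoidHom.range_eq_top.2, ← MonoidHom.range_eq_map, φ.range_eq]
    exact Prod.map_surjective.2 ⟨Function.surjective_id, qrot.surjective⟩
  eq_iff p q := by
    show φ.toHom (p.1, qrotFun p.2) = φ.toHom (q.1, qrotFun q.2) ↔ _
    rw [φ.eq_iff]
    have hinj : Function.Injective qrotFun := qrot.injective
    have hc : qrotFun qc = qc := by decide
    constructor
    · rintro (h | h)
      · exact Or.inl (Prod.ext (congrArg Prod.fst h :) (hinj (congrArg Prod.snd h :)))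
      · refine Or.inr (Prod.ext (congrArg Prod.fst h :) (hinj ?_))
        show qrotFun p.2 = qrotFun (q.2 * qc)
        rw [qrotFun_mul, hc]
        exact congrArg Prod.snd h
    · rintro (rfl | rfl)
      · exact Or.inl rfl
      · refine Or.inr ?_
        show (q.1 * qc, qrotFun (q.2 * qc)) = (q.1, qrotFun q.2) * (qc, qc)
        rw [qrotFun_mul, hc]
        rfl

/-- The diagonal elementary subgroup. -/
def diag (φ : CentralMap Q) : Subgroup S :=
  ({ carrier := {p | p.2 = p.1 ∨ p.2 = p.1 * qc}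
     one_mem' := Or.inl rfl
     mul_mem' := by
      intro p q hp hq
      revert p q
      decide
     inv_mem' := by
      intro p hp
      revert p
      decide } : Subgroup (QuaternionGroup 2 × QuaternionGroup 2)).map φ.toHom

omit [Finite S] in
theorem mem_diag_iff (φ : CentralMap Q) {x : S} :
    x ∈ φ.diag ↔ ∃ p : QuaternionGroup 2 × QuaternionGroup 2, (p.2 = p.1 ∨ p.2 = p.1 * qc) ∧ φ.toHom p = x :=
  ⟨fun ⟨p, hp, e⟩ => ⟨p, hp, e⟩, fun ⟨p, hp, e⟩ => ⟨p, hp, e⟩⟩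

omit [Finite S] in
theorem card_diag (φ : CentralMap Q) : Nat.card φ.diag = 8 := by
  classical
  let f : QuaternionGroup 2 → φ.diag := fun x => ⟨φ.toHom (x, x), φ.mem_diag_iff.2 ⟨(x, x), Or.inl rfl, rfl⟩⟩
  let f' : QuaternionGroup 2 → φ.diag :=
    fun x => ⟨φ.toHom (x, x * qc), φ.mem_diag_iff.2 ⟨(x, x * qc), Or.inr rfl, rfl⟩⟩
  -- a set of representatives modulo `(c, c)`
  let g : {x : QuaternionGroup 2 // x = 1 ∨ x = qi ∨ x = qj ∨ x = qi * qj} × Bool → φ.diag :=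
    fun p => if p.2 then f p.1 else f' p.1
  have hbij : Function.Bijective g := by
    constructor
    · have key : ∀ x y : QuaternionGroup 2, (x = 1 ∨ x = qi ∨ x = qj ∨ x = qi * qj) →
          (y = 1 ∨ y = qi ∨ y = qj ∨ y = qi * qj) → ¬ PairEqv (x, x) (y, y * qc) ∧ ¬ PairEqv (x, x * qc) (y, y) ∧
          (PairEqv (x, x) (y, y) → x = y) ∧ (PairEqv (x, x * qc) (y, y * qc) → x = y) := by decide
      rintro ⟨⟨x, hx⟩, s⟩ ⟨⟨y, hy⟩, t⟩ h
      have h' := congrArg Subtype.val h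
      obtain ⟨k1, k2, k3, k4⟩ := key x y hx hy
      cases s <;> cases t <;> simp only [g, f, f', if_true, Bool.false_eq_true, if_false] at h' <;>
        rw [φ.eq_iff] at h'
      · rw [Prod.mk.injEq, Subtype.mk.injEq]; exact ⟨k4 h', rfl⟩
      · exact absurd h' k2
      · exact absurd h' k1
      · rw [Prod.mk.injEq, Subtype.mk.injEq]; exact ⟨k3 h', rfl⟩
    · have key : ∀ p : QuaternionGroup 2 × QuaternionGroup 2, (p.2 = p.1 ∨ p.2 = p.1 * qc) →
          ∃ x, (x = 1 ∨ x = qi ∨ x = qj ∨ x = qi * qj) ∧ (PairEqv (x, x) p ∨ PairEqv (x, x * qc) p) := by decide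
      rintro ⟨v, hv⟩
      obtain ⟨p, hp, rfl⟩ := φ.mem_diag_iff.1 hv
      obtain ⟨x, hx, h | h⟩ := key p hp
      · exact ⟨(⟨x, hx⟩, true), Subtype.ext ((φ.eq_iff _ _).2 h)⟩
      · exact ⟨(⟨x, hx⟩, false), Subtype.ext ((φ.eq_iff _ _).2 h)⟩
  rw [← Nat.card_congr (Equiv.ofBijective g hbij), Nat.card_eq_fintype_card]
  rfl

omit [Finite S] in
theorem diag_le (φ : CentralMap Q) : φ.diag ≤ Q := by
  intro x hx
  obtain ⟨p, -, rfl⟩ := φ.mem_diag_iff.1 hx
  exact φ.range_eq.le ⟨p, rfl⟩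

omit [Finite S] in
theorem isElementaryAbelian_diag (φ : CentralMap Q) : Cfsg.IsElementaryAbelian 2 φ.diag := by
  have hc : ∀ p q : QuaternionGroup 2 × QuaternionGroup 2, (p.2 = p.1 ∨ p.2 = p.1 * qc) →
      (q.2 = q.1 ∨ q.2 = q.1 * qc) → PairEqv (p * q) (q * p) ∧ PairEqv (p * p) 1 := by decide
  refine ⟨⟨⟨fun x y => Subtype.ext ?_⟩⟩, fun x hx => ?_⟩
  · obtain ⟨p, hp, ex⟩ := φ.mem_diag_iff.1 x.2
    obtain ⟨q, hq, ey⟩ := φ.mem_diag_iff.1 y.2
    show (x : S) * y = y * x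
    rw [← ex, ← ey, ← map_mul, ← map_mul, φ.eq_iff]
    exact (hc p q hp hq).1
  · obtain ⟨p, hp, rfl⟩ := φ.mem_diag_iff.1 hx
    rw [pow_two, ← map_mul, ← φ.toHom.map_one, φ.eq_iff]
    exact (hc p p hp hp).2

/-- Either the diagonal is self-centralizing, or some element exchanges the factors along it. -/
theorem diag_or_swap (hS : IsPGroup 2 S) (φ : CentralMap Q) (hC : centralizer (Q : Set S) ≤ Q) :
    centralizer (φ.diag : Set S) = φ.diag ∨
      ∃ w : S, w * φ.toHom (qc, 1) * w⁻¹ = φ.toHom (qc, 1) ∧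
        ∀ x : QuaternionGroup 2,
          (w * φ.toHom (x, 1) * w⁻¹ = φ.toHom (1, x) ∨ w * φ.toHom (x, 1) * w⁻¹ = φ.toHom (1, x * qc)) ∧
          (w * φ.toHom (1, x) * w⁻¹ = φ.toHom (x, 1) ∨ w * φ.toHom (1, x) * w⁻¹ = φ.toHom (x * qc, 1)) := by
  classical
  have : Fact (Nat.Prime 2) := ⟨Nat.prime_two⟩
  by_cases hdiag : centralizer (φ.diag : Set S) = φ.diag
  · exact Or.inl hdiag
  right
  set A := φ.diag
  set W := centralizer (A : Set S)
  have hAW : A ≤ W := fun x hx => mem_centralizer_iff.2 fun y hy =>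
    congrArg Subtype.val (φ.isElementaryAbelian_diag.1.is_comm.comm (⟨y, hy⟩ : A) ⟨x, hx⟩)
  have hi : φ.toHom (qi, qi) ∈ A := φ.mem_diag_iff.2 ⟨_, Or.inl rfl, rfl⟩
  have hj : φ.toHom (qj, qj) ∈ A := φ.mem_diag_iff.2 ⟨_, Or.inl rfl, rfl⟩
  have hWQ : W ⊓ Q ≤ A := by
    rintro x ⟨hxW, hxQ⟩
    obtain ⟨p, rfl⟩ := φ.range_eq.ge hxQ
    refine φ.mem_diag_iff.2 ⟨p, mem_diag p ?_ ?_, rfl⟩
    · rw [← φ.eq_iff, map_mul, map_mul]; exact ((mem_centralizer_iff.1 hxW) _ hi).symm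
    · rw [← φ.eq_iff, map_mul, map_mul]; exact ((mem_centralizer_iff.1 hxW) _ hj).symm
  -- an element outside `Q` centralizing `A` and normalizing `Q`
  obtain ⟨w, hwW, hwN, hwQ⟩ : ∃ w ∈ W, w ∈ normalizer (Q : Set S) ∧ w ∉ Q := by
    have hQA : ∀ q ∈ Q, ∀ v ∈ A, q * v * q⁻¹ ∈ A := by
      intro q hq v hv
      obtain ⟨p, rfl⟩ := φ.range_eq.ge hq
      obtain ⟨r, hr, rfl⟩ := φ.mem_diag_iff.1 hv
      refine φ.mem_diag_iff.2 ⟨p * r * p⁻¹, ?_, by rw [map_mul, map_mul, map_inv]⟩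
      show p.2 * r.2 * p.2⁻¹ = p.1 * r.1 * p.1⁻¹ ∨ p.2 * r.2 * p.2⁻¹ = p.1 * r.1 * p.1⁻¹ * qc
      exact coset_trans _ _ _ (coset_trans _ _ _ (coset_symm _ _ (conj_snd p.1 r.1)) hr) (conj_snd p.2 r.2)
    have hQW : ∀ q ∈ Q, q ∈ normalizer (W : Set S) := by
      have key : ∀ q ∈ Q, ∀ w ∈ W, q * w * q⁻¹ ∈ W := by
        intro q hq w hw
        refine mem_centralizer_iff.2 fun v hv => ?_
        have h1 := (mem_centralizer_iff.1 hw) _ (hQA q⁻¹ (inv_mem hq) v hv)
        calc v * (q * w * q⁻¹) = q * (q⁻¹ * v * q⁻¹⁻¹ * w) * q⁻¹ := by group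
          _ = _ := by rw [h1]; group
      intro q hq
      refine mem_normalizer_iff.2 fun v => ⟨key q hq v, fun h => ?_⟩
      have := key q⁻¹ (inv_mem hq) _ h
      rwa [show q⁻¹ * (q * v * q⁻¹) * q⁻¹⁻¹ = v by group] at this
    have hlt : Q < Q ⊔ W := by
      refine lt_of_le_of_ne le_sup_left fun e => hdiag (le_antisymm ?_ hAW)
      exact fun x hx => hWQ ⟨hx, e.ge (mem_sup_right hx)⟩
    obtain ⟨x, hx, hxQ, hxn⟩ := PGroups.exists_mem_notMem_normalizer hS hlt
    have hx' : x ∈ ((Q ⊔ W : Subgroup S) : Set S) := hx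
    rw [Subgroup.coe_mul_of_left_le_normalizer_right Q W hQW] at hx'
    obtain ⟨q, hq, w, hw, rfl⟩ := hx'
    refine ⟨w, hw, ?_, fun h => hxQ (mul_mem hq h)⟩
    have h1 := mul_mem (inv_mem (le_normalizer hq : q ∈ normalizer (Q : Set S))) hxn
    rwa [inv_mul_cancel_left] at h1
  have hfix : ∀ v ∈ A, w * v * w⁻¹ = v := fun v hv =>
    mul_inv_eq_iff_eq_mul.2 ((mem_centralizer_iff.1 hwW) v hv).symm
  have hwc : w * φ.toHom (qc, 1) * w⁻¹ = φ.toHom (qc, 1) := hfix _ (φ.mem_diag_iff.2 ⟨_, Or.inr (by decide), rfl⟩)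
  have hQmem : ∀ p, φ.toHom p ∈ Q := fun p => φ.range_eq.le ⟨p, rfl⟩
  have himg : ∀ p, ∃ p', φ.toHom p' = w * φ.toHom p * w⁻¹ := fun p => by
    obtain ⟨p', hp'⟩ := φ.range_eq.ge ((mem_normalizer_iff.1 hwN _).1 (hQmem p))
    exact ⟨p', hp'⟩
  have htrans : ∀ {p p'} (d : QuaternionGroup 2 × QuaternionGroup 2), (d.2 = d.1 ∨ d.2 = d.1 * qc) →
      φ.toHom p' = w * φ.toHom p * w⁻¹ → (PairEqv (p' * d) (d * p') ↔ PairEqv (p * d) (d * p)) := by
    intro p p' d hd hp
    have hdA := hfix _ (φ.mem_diag_iff.2 ⟨d, hd, rfl⟩)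
    rw [← φ.eq_iff, ← φ.eq_iff, map_mul, map_mul, map_mul, map_mul, hp]
    constructor
    · intro h
      calc φ.toHom p * φ.toHom d = w⁻¹ * (w * φ.toHom p * w⁻¹ * (w * φ.toHom d * w⁻¹)) * w := by group
        _ = w⁻¹ * ((w * φ.toHom d * w⁻¹) * (w * φ.toHom p * w⁻¹)) * w := by rw [hdA, h]
        _ = _ := by group
    · intro h
      calc w * φ.toHom p * w⁻¹ * φ.toHom d = w * φ.toHom p * w⁻¹ * (w * φ.toHom d * w⁻¹) := by rw [hdA]
        _ = w * (φ.toHom p * φ.toHom d) * w⁻¹ := by group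
        _ = (w * φ.toHom d * w⁻¹) * (w * φ.toHom p * w⁻¹) := by rw [h]; group
        _ = _ := by rw [hdA]
  have hsq : ∀ {p p'}, φ.toHom p' = w * φ.toHom p * w⁻¹ → PairEqv (p * p) (qc, 1) → PairEqv (p' * p') (qc, 1) := by
    intro p p' hp h
    rw [← φ.eq_iff, map_mul] at h ⊢
    calc φ.toHom p' * φ.toHom p' = w * (φ.toHom p * φ.toHom p) * w⁻¹ := by rw [hp]; group
      _ = _ := by rw [h, hwc]
  -- the images of `i` and `j`
  obtain ⟨p, hp⟩ := himg (qi, 1)
  obtain ⟨p', hp'⟩ := himg (qj, 1)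
  have hpc := image_cases p (hsq hp (by decide)) ((htrans (qi, qi) (Or.inl rfl) hp).2 (by decide))
    (fun h => absurd ((htrans (qj, qj) (Or.inl rfl) hp).1 h) (by decide))
  have hpc' := image_cases' p' (hsq hp' (by decide)) ((htrans (qj, qj) (Or.inl rfl) hp').2 (by decide))
    (fun h => absurd ((htrans (qi, qi) (Or.inl rfl) hp').1 h) (by decide))
  simp only [← φ.eq_iff, hp] at hpc
  simp only [← φ.eq_iff, hp'] at hpc'
  -- they anticommute
  have hanti : ∀ x y, w * φ.toHom (qi, 1) * w⁻¹ = φ.toHom x → w * φ.toHom (qj, 1) * w⁻¹ = φ.toHom y →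
      ¬ PairEqv (x * y) (y * x) := by
    intro x y hx hy h
    rw [← φ.eq_iff, map_mul, map_mul, ← hx, ← hy] at h
    refine absurd ((φ.eq_iff ((qi, 1) * (qj, 1)) ((qj, 1) * (qi, 1))).1 ?_) (by decide)
    rw [map_mul, map_mul]
    calc φ.toHom (qi, 1) * φ.toHom (qj, 1)
        = w⁻¹ * (w * φ.toHom (qi, 1) * w⁻¹ * (w * φ.toHom (qj, 1) * w⁻¹)) * w := by group
      _ = _ := by rw [h]; group
  -- `w` fixes or exchanges the factors
  obtain hE | hF : ((w * φ.toHom (qi, 1) * w⁻¹ = φ.toHom (qi, 1) ∨ w * φ.toHom (qi, 1) * w⁻¹ = φ.toHom (qi * qc, 1)) ∧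
      (w * φ.toHom (qj, 1) * w⁻¹ = φ.toHom (qj, 1) ∨ w * φ.toHom (qj, 1) * w⁻¹ = φ.toHom (qj * qc, 1))) ∨
    ((w * φ.toHom (qi, 1) * w⁻¹ = φ.toHom (1, qi) ∨ w * φ.toHom (qi, 1) * w⁻¹ = φ.toHom (1, qi * qc)) ∧
      (w * φ.toHom (qj, 1) * w⁻¹ = φ.toHom (1, qj) ∨ w * φ.toHom (qj, 1) * w⁻¹ = φ.toHom (1, qj * qc))) := by
    rcases hpc with h | h | h | h <;> rcases hpc' with h' | h' | h' | h' <;>
      first
      | exact Or.inl ⟨Or.inl h, Or.inl h'⟩
      | exact Or.inl ⟨Or.inl h, Or.inr h'⟩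
      | exact Or.inl ⟨Or.inr h, Or.inl h'⟩
      | exact Or.inl ⟨Or.inr h, Or.inr h'⟩
      | exact Or.inr ⟨Or.inl h, Or.inl h'⟩
      | exact Or.inr ⟨Or.inl h, Or.inr h'⟩
      | exact Or.inr ⟨Or.inr h, Or.inl h'⟩
      | exact Or.inr ⟨Or.inr h, Or.inr h'⟩
      | exact absurd (by decide) (hanti _ _ h h')
  · exfalso
    -- then `w` induces an inner automorphism
    obtain ⟨q, hq, hqA, hqi, hqj⟩ : ∃ q, q ∈ Q ∧ q ∈ W ∧ q * φ.toHom (qi, 1) * q⁻¹ = w * φ.toHom (qi, 1) * w⁻¹ ∧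
        q * φ.toHom (qj, 1) * q⁻¹ = w * φ.toHom (qj, 1) * w⁻¹ := by
      have key : ∀ x : QuaternionGroup 2, ∃ d : QuaternionGroup 2 × QuaternionGroup 2,
          (d.2 = d.1 ∨ d.2 = d.1 * qc) ∧ d * (qi, 1) * d⁻¹ = (x * qi * x⁻¹, 1) ∧
            d * (qj, 1) * d⁻¹ = (x * qj * x⁻¹, 1) := fun x => ⟨(x, x), Or.inl rfl, by
        simp, by simp⟩
      have hx : ∃ x : QuaternionGroup 2, φ.toHom (x * qi * x⁻¹, 1) = w * φ.toHom (qi, 1) * w⁻¹ ∧
          φ.toHom (x * qj * x⁻¹, 1) = w * φ.toHom (qj, 1) * w⁻¹ := by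
        obtain ⟨h1 | h1, h2 | h2⟩ := hE
        · exact ⟨1, by rw [h1]; exact congrArg φ.toHom (by decide), by rw [h2]; exact congrArg φ.toHom (by decide)⟩
        · exact ⟨qi, by rw [h1]; exact congrArg φ.toHom (by decide), by rw [h2]; exact congrArg φ.toHom (by decide)⟩
        · exact ⟨qj, by rw [h1]; exact congrArg φ.toHom (by decide), by rw [h2]; exact congrArg φ.toHom (by decide)⟩
        · exact ⟨qi * qj, by rw [h1]; exact congrArg φ.toHom (by decide),
            by rw [h2]; exact congrArg φ.toHom (by decide)⟩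
      obtain ⟨x, hxi, hxj⟩ := hx
      obtain ⟨d, hd, e1, e2⟩ := key x
      exact ⟨φ.toHom d, hQmem d, hAW (φ.mem_diag_iff.2 ⟨d, hd, rfl⟩),
        by rw [← hxi, ← map_inv, ← map_mul, ← map_mul, e1], by rw [← hxj, ← map_inv, ← map_mul, ← map_mul, e2]⟩
    set G₀ := centralizer ({q⁻¹ * w} : Set S)
    have hcom : ∀ v, q * v * q⁻¹ = w * v * w⁻¹ → v ∈ G₀ := fun v hv => mem_centralizer_singleton_iff.2 (by
      calc v * (q⁻¹ * w) = q⁻¹ * (q * v * q⁻¹) * w := by group
        _ = q⁻¹ * (w * v * w⁻¹) * w := by rw [hv]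
        _ = q⁻¹ * w * v := by group)
    have hA0 : ∀ v ∈ A, v ∈ G₀ := fun v hv => hcom v (by
      rw [hfix v hv, mul_inv_eq_iff_eq_mul.2 ((mem_centralizer_iff.1 hqA) v hv).symm])
    have hle : Q ≤ G₀ := by
      intro v hv
      obtain ⟨⟨x, y⟩, rfl⟩ := φ.range_eq.ge hv
      have g1 : φ.toHom (qi, 1) ∈ G₀ := hcom _ hqi
      have g2 : φ.toHom (qj, 1) ∈ G₀ := hcom _ hqj
      have gen : ∀ (f : QuaternionGroup 2 →* S), f qi ∈ G₀ → f qj ∈ G₀ → ∀ x, f x ∈ G₀ := by
        intro f hi hj x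
        rcases qgen x with rfl | rfl | rfl | rfl | rfl | rfl | rfl | rfl <;>
          (try simp only [map_one, map_mul]) <;>
          first
          | exact one_mem G₀
          | exact hi
          | exact hj
          | exact mul_mem hi hi
          | exact mul_mem (mul_mem hi hi) hi
          | exact mul_mem hj hi
          | exact mul_mem hj (mul_mem hi hi)
          | exact mul_mem hj (mul_mem (mul_mem hi hi) hi)
      have hx := gen (φ.toHom.comp (MonoidHom.inl _ _)) g1 g2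
      have hy := hA0 _ (φ.mem_diag_iff.2 ⟨(y, y), Or.inl rfl, rfl⟩)
      have e : φ.toHom (x, y) = φ.toHom (x * y⁻¹, 1) * φ.toHom (y, y) := by rw [← map_mul]; simp
      rw [e]
      exact mul_mem (hx _) hy
    have hmem : q⁻¹ * w ∈ Q := hC (mem_centralizer_iff.2 fun v hv => mem_centralizer_singleton_iff.1 (hle hv))
    exact hwQ (by have := mul_mem hq hmem; rwa [mul_inv_cancel_left] at this)
  · refine ⟨w, hwc, fun x => ?_⟩
    -- exchange on generators extends to all elements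
    have hone : ∀ x : QuaternionGroup 2, w * φ.toHom (x, 1) * w⁻¹ = φ.toHom (1, x) ∨
        w * φ.toHom (x, 1) * w⁻¹ = φ.toHom (1, x * qc) := by
      have hmul : ∀ x y : QuaternionGroup 2,
          (w * φ.toHom (x, 1) * w⁻¹ = φ.toHom (1, x) ∨ w * φ.toHom (x, 1) * w⁻¹ = φ.toHom (1, x * qc)) →
          (w * φ.toHom (y, 1) * w⁻¹ = φ.toHom (1, y) ∨ w * φ.toHom (y, 1) * w⁻¹ = φ.toHom (1, y * qc)) →
          w * φ.toHom (x * y, 1) * w⁻¹ = φ.toHom (1, x * y) ∨
            w * φ.toHom (x * y, 1) * w⁻¹ = φ.toHom (1, x * y * qc) := by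
        intro x y hx hy
        have e : w * φ.toHom (x * y, 1) * w⁻¹ = w * φ.toHom (x, 1) * w⁻¹ * (w * φ.toHom (y, 1) * w⁻¹) := by
          rw [show ((x * y, 1) : QuaternionGroup 2 × QuaternionGroup 2) = (x, 1) * (y, 1) by simp, map_mul]
          group
        have k : ∀ u v : QuaternionGroup 2, u * qc * v = u * v * qc ∧ u * qc * (v * qc) = u * v ∧
            u * (v * qc) = u * v * qc := by decide
        rw [e]
        rcases hx with hx | hx <;> rcases hy with hy | hy <;> rw [hx, hy, ← map_mul]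
        · exact Or.inl (by simp)
        · exact Or.inr (by simp [(k x y).2.2])
        · exact Or.inr (by simp [(k x y).1])
        · exact Or.inl (by simp [(k x y).2.1])
      intro x
      rcases qgen x with rfl | rfl | rfl | rfl | rfl | rfl | rfl | rfl
      · exact Or.inl (by rw [show φ.toHom (1, 1) = 1 from map_one _]; group)
      · exact hF.1
      · exact hmul _ _ hF.1 hF.1
      · exact hmul _ _ (hmul _ _ hF.1 hF.1) hF.1
      · exact hF.2
      · exact hmul _ _ hF.2 hF.1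
      · exact hmul _ _ hF.2 (hmul _ _ hF.1 hF.1)
      · exact hmul _ _ hF.2 (hmul _ _ (hmul _ _ hF.1 hF.1) hF.1)
    refine ⟨hone x, ?_⟩
    have h1 : w * φ.toHom (1, x) * w⁻¹ = (w * φ.toHom (x, 1) * w⁻¹)⁻¹ * φ.toHom (x, x) := by
      have h2 := hfix _ (φ.mem_diag_iff.2 ⟨(x, x), Or.inl rfl, rfl⟩)
      rw [show ((x, x) : QuaternionGroup 2 × QuaternionGroup 2) = (x, 1) * (1, x) by simp, map_mul] at h2 ⊢
      calc w * φ.toHom (1, x) * w⁻¹
          = (w * φ.toHom (x, 1) * w⁻¹)⁻¹ * (w * (φ.toHom (x, 1) * φ.toHom (1, x)) * w⁻¹) := by group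
        _ = _ := by rw [h2]
    rcases hone x with h | h <;> rw [h1, h, ← map_inv, ← map_mul]
    · exact Or.inl (by simp)
    · exact Or.inr ((φ.eq_iff _ _).2 (Or.inr (swap_eqv x)))

end CentralMap

omit [Finite S] in
theorem exists_centralMap {Q Q₁ Q₂ : Subgroup S} (e₁ : Q₁ ≃* QuaternionGroup 2) (e₂ : Q₂ ≃* QuaternionGroup 2)
    (hcomm : ∀ a ∈ Q₁, ∀ b ∈ Q₂, a * b = b * a) (hQ : Q₁ ⊔ Q₂ = Q) (hQ32 : Nat.card Q = 32) :
    Nonempty (CentralMap Q) := by
  classical
  set f := Q₁.subtype.comp e₁.symm.toMonoidHom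
  set g := Q₂.subtype.comp e₂.symm.toMonoidHom
  let φ := MonoidHom.noncommCoprod f g fun x y => hcomm _ (e₁.symm x).2 _ (e₂.symm y).2
  have hrange : φ.range = Q := by
    refine (MonoidHom.noncommCoprod_range f g _).trans ?_
    rw [MonoidHom.range_comp, MonoidHom.range_comp,
      MonoidHom.range_eq_top.2 e₁.symm.surjective, MonoidHom.range_eq_top.2 e₂.symm.surjective,
      ← MonoidHom.range_eq_map, ← MonoidHom.range_eq_map, Subgroup.range_subtype, Subgroup.range_subtype, hQ]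
  have hker : ∀ p ∈ φ.ker, p = 1 ∨ p = (qc, qc) := by
    rintro ⟨x, y⟩ hp
    have hxy : f x * g y = 1 := hp
    have hfinj : Function.Injective f := Q₁.subtype_injective.comp e₁.symm.injective
    have hginj : Function.Injective g := Q₂.subtype_injective.comp e₂.symm.injective
    have hx : x = 1 ∨ x = qc := by
      refine center_cases x fun v => hfinj ?_
      rw [map_mul, map_mul, eq_inv_of_mul_eq_one_left hxy, ← map_inv]
      exact (hcomm _ (e₁.symm v).2 _ (e₂.symm y⁻¹).2).symm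
    have hy : y = 1 ∨ y = qc := by
      refine center_cases y fun v => hginj ?_
      rw [map_mul, map_mul, eq_inv_of_mul_eq_one_right hxy, ← map_inv]
      exact hcomm _ (e₁.symm x⁻¹).2 _ (e₂.symm v).2
    rcases hx with rfl | rfl <;> rcases hy with rfl | rfl
    · exact Or.inl rfl
    · exfalso
      rw [map_one, one_mul, ← map_one g] at hxy
      exact absurd (hginj hxy) (by decide)
    · exfalso
      rw [map_one g, mul_one, ← map_one f] at hxy
      exact absurd (hfinj hxy) (by decide)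
    · exact Or.inr rfl
  have hcc : φ (qc, qc) = 1 := by
    by_contra hne
    have hinj : Function.Injective φ := (injective_iff_map_eq_one φ).2 fun p hp =>
      (hker p hp).resolve_right fun e => hne (e ▸ hp)
    have h := Nat.card_congr (MonoidHom.ofInjective hinj).toEquiv
    rw [hrange, hQ32, Nat.card_eq_fintype_card] at h
    exact absurd h (by decide)
  refine ⟨⟨φ, hrange, fun p q => ?_⟩⟩
  constructor
  · intro h
    have h1 : q⁻¹ * p ∈ φ.ker := by rw [MonoidHom.mem_ker, map_mul, map_inv, h, inv_mul_cancel]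
    rcases hker _ h1 with e | e
    · exact Or.inl (by rw [← mul_inv_cancel_left q p, e, mul_one])
    · exact Or.inr (by rw [← mul_inv_cancel_left q p, e])
  · rintro (rfl | rfl)
    · rfl
    · rw [map_mul, hcc, mul_one]

theorem extraspecial_sectional (hS : IsPGroup 2 S) (Q Q₁ Q₂ : Subgroup S) (e₁ : Q₁ ≃* QuaternionGroup 2)
    (e₂ : Q₂ ≃* QuaternionGroup 2) (hcomm : ∀ a ∈ Q₁, ∀ b ∈ Q₂, a * b = b * a) (hQ : Q₁ ⊔ Q₂ = Q)
    (hQ32 : Nat.card Q = 32) (hC : Subgroup.centralizer (Q : Set S) ≤ Q) : Cfsg.SectionalPRankLE 2 4 S := by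
  classical
  obtain ⟨φ⟩ := exists_centralMap e₁ e₂ hcomm hQ hQ32
  rcases φ.diag_or_swap hS hC with h | ⟨w, hwc, hw⟩
  · exact sectional_of_selfCentralizing hS _ φ.isElementaryAbelian_diag φ.card_diag h
  rcases φ.rot.diag_or_swap hS hC with h | ⟨w', hwc', hw'⟩
  · exact sectional_of_selfCentralizing hS _ φ.rot.isElementaryAbelian_diag φ.rot.card_diag h
  exfalso
  change w' * φ.toHom (qc, qrotFun 1) * w'⁻¹ = φ.toHom (qc, qrotFun 1) at hwc'
  -- `w' w` permutes three cosets of the first factor cyclically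
  have hstep : ∀ x : QuaternionGroup 2, ∃ y : QuaternionGroup 2, (x = qrotFun y ∨ x = qrotFun y * qc) ∧
      w' * w * φ.toHom (x, 1) * (w' * w)⁻¹ = φ.toHom (y, 1) := by
    intro x
    obtain ⟨x', hx', hxe⟩ : ∃ x', (x' = x ∨ x' = x * qc) ∧ w * φ.toHom (x, 1) * w⁻¹ = φ.toHom (1, x') := by
      rcases (hw x).1 with e | e
      exacts [⟨x, Or.inl rfl, e⟩, ⟨x * qc, Or.inr rfl, e⟩]
    obtain ⟨y₀, hy₀⟩ : ∃ y, qrotFun y = x' := qrot.surjective x'
    have h2 := (hw' y₀).2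
    change w' * φ.toHom (1, qrotFun y₀) * w'⁻¹ = φ.toHom (y₀, qrotFun 1) ∨
      w' * φ.toHom (1, qrotFun y₀) * w'⁻¹ = φ.toHom (y₀ * qc, qrotFun 1) at h2
    rw [hy₀, show qrotFun (1 : QuaternionGroup 2) = 1 by decide] at h2
    have hcomp : w' * w * φ.toHom (x, 1) * (w' * w)⁻¹ = w' * φ.toHom (1, x') * w'⁻¹ := by rw [← hxe]; group
    have key : ∀ x y : QuaternionGroup 2, qrotFun y = x ∨ qrotFun y = x * qc →
        (x = qrotFun y ∨ x = qrotFun y * qc) ∧ (x = qrotFun (y * qc) ∨ x = qrotFun (y * qc) * qc) := by decide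
    have hy₁ : qrotFun y₀ = x ∨ qrotFun y₀ = x * qc := by rwa [hy₀]
    rcases h2 with e | e
    · exact ⟨y₀, (key x y₀ hy₁).1, hcomp.trans e⟩
    · exact ⟨y₀ * qc, (key x y₀ hy₁).2, hcomp.trans e⟩
  set r := w' * w
  obtain ⟨k, hk⟩ := IsPGroup.iff_orderOf.1 hS r
  -- the class of the image of `i` under a power
  have hpow : ∀ n : ℕ, ∃ y : QuaternionGroup 2, r ^ n * φ.toHom (qi, 1) * (r ^ n)⁻¹ = φ.toHom (y, 1) ∧
      (n % 3 = 0 → y = qi ∨ y = qi * qc) ∧ (n % 3 = 2 → qrotFun (qrotFun y) = qi ∨ qrotFun (qrotFun y) = qi * qc) ∧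
      (n % 3 = 1 → qrotFun y = qi ∨ qrotFun y = qi * qc) := by
    intro n
    induction n with
    | zero => exact ⟨qi, by simp, fun _ => Or.inl rfl, by omega, by omega⟩
    | succ n ih =>
      obtain ⟨y, hy, h0, h2, h1⟩ := ih
      obtain ⟨y', hy', hye⟩ := hstep y
      refine ⟨y', ?_, ?_, ?_, ?_⟩
      · rw [← hye, ← hy, pow_succ']; group
      all_goals intro hn
      · exact (rot_step y y' hy').1 (h2 (by omega))
      · exact (rot_step y y' hy').2.1 (h1 (by omega))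
      · exact (rot_step y y' hy').2.2 (h0 (by omega))
  obtain ⟨y, hy, -, h2, h1⟩ := hpow (2 ^ k)
  rw [← hk, pow_orderOf_eq_one, one_mul, inv_one, mul_one, φ.eq_iff] at hy
  have hmod : 2 ^ k % 3 = 1 ∨ 2 ^ k % 3 = 2 := by
    have h3 : ∀ n : ℕ, 2 ^ n % 3 = 1 ∨ 2 ^ n % 3 = 2 := by
      intro n
      induction n with
      | zero => simp
      | succ n ih => rw [pow_succ]; omega
    exact h3 k
  rcases hmod with hm | hm
  · exact (rot_fixed y hy).1 (h1 hm)
  · exact (rot_fixed y hy).2 (h2 hm)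

end Cfsg.Agent.H32.Harada
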