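import Cfsg.Agent.H32.Harada.Main

/-!
A 2-group with a subgroup `(Z₂ × Z₂) ≀ Z₂` containing the centralizer of its centre.
-/

set_option autoImplicit false

namespace Cfsg.Agent.H32.Harada

open Subgroup

variable {S : Type*} [Group S] [Finite S]

theorem wreath_sectional (hS : IsPGroup 2 S) (Q E : Subgroup S) (hEQ : E ≤ Q)
    (hE : Cfsg.IsElementaryAbelian 2 E) (hE16 : Nat.card E = 16) (hQ32 : Nat.card Q = 32) (s : S) (hsQ : s ∈ Q)
    (hsE : s ∉ E) (hs : orderOf s = 2) (hfix : Nat.card ↥(E ⊓ Subgroup.centralizer ({s} : Set S)) = 4)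
    (hC : Subgroup.centralizer (((Subgroup.center Q).map Q.subtype : Subgroup S) : Set S) = Q) :
    Cfsg.SectionalPRankLE 2 4 S := by
  have hEc : ∀ x ∈ E, ∀ y ∈ E, x * y = y * x := fun x hx y hy =>
    congrArg Subtype.val (hE.1.is_comm.comm (⟨x, hx⟩ : E) ⟨y, hy⟩)
  have hE2 : ∀ x ∈ E, x * x = 1 := fun x hx => by rw [← pow_two]; exact hE.2 x hx
  have hss : s * s = 1 := by rw [← pow_two, ← hs, pow_orderOf_eq_one]
  set Z := E ⊓ centralizer ({s} : Set S)
  have hQidx : (E.subgroupOf Q).index = 2 := by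
    have h := H64.RankFour.card_mul_relIndex hEQ
    rw [hE16, hQ32, relIndex] at h
    omega
  have hQmem : ∀ x ∈ Q, x ∈ E ∨ x * s ∈ E := by
    intro x hx
    by_cases hxE : x ∈ E
    · exact Or.inl hxE
    · exact Or.inr ((mul_mem_iff_of_index_two hQidx (a := ⟨x, hx⟩) (b := ⟨s, hsQ⟩)).2
        ⟨fun h => absurd h hxE, fun h => absurd h hsE⟩)
  have hZc : ∀ x ∈ Z, ∀ q ∈ Q, q * x = x * q := by
    intro x hx q hq
    have h1 : Commute x s := mem_centralizer_singleton_iff.1 hx.2
    rcases hQmem q hq with h | h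
    · exact hEc q h x hx.1
    · have h2 : Commute x (q * s) := hEc x hx.1 _ h
      have h3 := h2.mul_right h1
      rw [mul_assoc, hss, mul_one] at h3
      exact h3.eq.symm
  have hnE : ¬ (E ≤ centralizer ({s} : Set S)) := fun h => by
    rw [show Z = E from inf_eq_left.2 h, hE16] at hfix
    omega
  have hcenter : ((center Q).map Q.subtype : Subgroup S) = Z := by
    ext x
    constructor
    · rintro ⟨⟨x, hx⟩, hxc, rfl⟩
      have hc : ∀ q ∈ Q, q * x = x * q := fun q hq => congrArg Subtype.val (mem_center_iff.1 hxc ⟨q, hq⟩)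
      have hxs : x ∈ centralizer ({s} : Set S) := mem_centralizer_singleton_iff.2 (hc s hsQ).symm
      refine ⟨?_, hxs⟩
      show x ∈ E
      refine (hQmem x hx).resolve_right fun h => hnE fun e he => mem_centralizer_singleton_iff.2 ?_
      have h1 : Commute e (x * s) := hEc e he _ h
      have h2 : Commute e x := hc e (hEQ he)
      have h3 := h2.inv_right.mul_right h1
      rwa [inv_mul_cancel_left] at h3
    · intro hx
      exact ⟨⟨x, hEQ hx.1⟩, mem_center_iff.2 fun q => Subtype.ext (hZc x hx q q.2), rfl⟩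
  rw [hcenter] at hC
  set A := Z ⊔ zpowers s
  have hsA : s ∈ A := mem_sup_right (mem_zpowers s)
  have hAQ : A ≤ Q := sup_le (inf_le_left.trans hEQ) (zpowers_le.2 hsQ)
  have hAc : ∀ x ∈ A, ∀ y ∈ A, x * y = y * x := by
    have h1 : A ≤ centralizer (A : Set S) := by
      refine sup_le (fun z hz => mem_centralizer_iff.2 fun w hw => hZc z hz w (hAQ hw)) (zpowers_le.2 ?_)
      refine mem_centralizer_iff.2 fun w hw => ?_
      have : A ≤ centralizer ({s} : Set S) :=
        sup_le inf_le_right (zpowers_le.2 (mem_centralizer_singleton_iff.2 rfl))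
      exact mem_centralizer_singleton_iff.1 (this hw)
    exact fun x hx y hy => ((mem_centralizer_iff.1 (h1 hx)) y hy).symm
  have hA2 : ∀ x ∈ A, x * x = 1 := by
    let T : Subgroup S :=
      { carrier := {x | x ∈ A ∧ x * x = 1}
        one_mem' := ⟨one_mem A, mul_one 1⟩
        mul_mem' := by
          rintro x y ⟨hx, hx2⟩ ⟨hy, hy2⟩
          refine ⟨mul_mem hx hy, ?_⟩
          calc x * y * (x * y) = x * (y * x) * y := by group
            _ = x * x * (y * y) := by rw [hAc y hy x hx]; group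
            _ = 1 := by rw [hx2, hy2, one_mul]
        inv_mem' := by
          rintro x ⟨hx, hx2⟩
          exact ⟨inv_mem hx, by rw [← mul_inv_rev, hx2, inv_one]⟩ }
    have : A ≤ T := sup_le (fun z hz => ⟨mem_sup_left hz, hE2 z hz.1⟩) (zpowers_le.2 ⟨hsA, hss⟩)
    exact fun x hx => (this hx).2
  have hAE : A ⊓ E = Z := le_antisymm
    (fun x hx => ⟨hx.2, mem_centralizer_singleton_iff.2 (hAc x hx.1 s hsA)⟩) (le_inf le_sup_left inf_le_left)
  have hA8 : Nat.card A = 8 := by
    rw [← H64.RankFour.card_inf_mul_relIndex A E, hAE, hfix]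
    have h2 : E.relIndex A ≤ 2 :=
      (relIndex_le_of_le_right hAQ Subgroup.index_ne_zero_of_finite).trans (le_of_eq hQidx)
    have h3 : E.relIndex A ≠ 1 := fun e => hsE (relIndex_eq_one.1 e hsA)
    have h4 : E.relIndex A ≠ 0 := Subgroup.index_ne_zero_of_finite
    omega
  refine sectional_of_selfCentralizing hS A ⟨⟨⟨fun x y => Subtype.ext (hAc x x.2 y y.2)⟩⟩, fun x hx => ?_⟩ hA8 ?_
  · rw [pow_two]; exact hA2 x hx
  refine le_antisymm (fun x hx => ?_) fun x hx => mem_centralizer_iff.2 fun w hw => hAc w hw x hx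
  have hxQ : x ∈ Q := hC ▸ mem_centralizer_iff.2 fun w hw => (mem_centralizer_iff.1 hx) w (mem_sup_left hw)
  have hxs : x * s = s * x := ((mem_centralizer_iff.1 hx) s hsA).symm
  rcases hQmem x hxQ with h | h
  · exact mem_sup_left ⟨h, mem_centralizer_singleton_iff.2 hxs⟩
  · have h1 : x * s ∈ A := mem_sup_left (show x * s ∈ Z from ⟨h, mem_centralizer_singleton_iff.2 (by
      rw [mul_assoc, hss, mul_one, ← mul_assoc, ← hxs, mul_assoc, hss, mul_one])⟩)
    exact (Subgroup.mul_mem_cancel_right A hsA).1 h1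

end Cfsg.Agent.H32.Harada
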